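import Mathlib
import Cfsg.Agent.PGroup.Frattini
import Cfsg.Agent.PGroup.Normal
import Cfsg.Agent.PGroup.UniqueOrderP
import Cfsg.Agent.TwoGroup.UniqueInvolution

/-!
Burnside: a normal subgroup of a finite `p`-group inside the Frattini subgroup, with cyclic centre, is cyclic.
-/

set_option autoImplicit false

open scoped commutatorElement

namespace CfsgLib.SymplecticType

variable {G : Type*} [Group G] [Finite G] {p : ℕ} [hp : Fact p.Prime]

omit hp in
theorem mem_zpowers_of_isCyclic {N : Subgroup G} (hN : IsCyclic ↥N) {x y : G} (hx : x ∈ N) (hy : y ∈ N)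
    (h : y ^ orderOf x = 1) : y ∈ Subgroup.zpowers x := by
  classical
  cases nonempty_fintype ↥N
  haveI := hN
  let x' : ↥N := ⟨x, hx⟩
  let y' : ↥N := ⟨y, hy⟩
  have hk : orderOf x' = orderOf x := Subgroup.orderOf_mk x hx
  have hle := IsCyclic.card_pow_eq_one_le (α := ↥N) (orderOf_pos x')
  have hsub : ((Finset.range (orderOf x')).image fun i => x' ^ i) ⊆
      Finset.univ.filter fun u : ↥N => u ^ orderOf x' = 1 := by
    intro u hu
    obtain ⟨i, -, rfl⟩ := Finset.mem_image.mp hu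
    exact Finset.mem_filter.mpr
      ⟨Finset.mem_univ _, by rw [← pow_mul, mul_comm, pow_mul, pow_orderOf_eq_one, one_pow]⟩
  have hcard : ((Finset.range (orderOf x')).image fun i => x' ^ i).card = orderOf x' := by
    rw [Finset.card_image_of_injOn, Finset.card_range]
    intro i hi j hj hij
    exact pow_injOn_Iio_orderOf (Finset.mem_range.mp hi) (Finset.mem_range.mp hj) hij
  have heq := Finset.eq_of_subset_of_card_le hsub (hle.trans hcard.ge)
  have hy' : y' ∈ Finset.univ.filter fun u : ↥N => u ^ orderOf x' = 1 :=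
    Finset.mem_filter.mpr ⟨Finset.mem_univ _, Subtype.ext (by rw [hk]; exact h)⟩
  rw [← heq] at hy'
  obtain ⟨i, -, hi⟩ := Finset.mem_image.mp hy'
  exact ⟨(i : ℤ), by simpa [x', y'] using congrArg Subtype.val hi⟩

omit [Finite G] hp in
theorem conj_pow_eq {g a : G} {k : ℤ} (h : g * a * g⁻¹ = a ^ k) (i : ℕ) :
    g ^ i * a * (g ^ i)⁻¹ = a ^ (k ^ i) := by
  induction i with
  | zero => simp
  | succ i ih =>
    calc g ^ (i + 1) * a * (g ^ (i + 1))⁻¹ = g * (g ^ i * a * (g ^ i)⁻¹) * g⁻¹ := by rw [pow_succ']; group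
      _ = (a ^ k) ^ (k ^ i) := by rw [ih, ← h, conj_zpow]
      _ = a ^ (k ^ (i + 1)) := by rw [← zpow_mul, pow_succ']

/-- In a `p`-group an exponent of conjugation on a cyclic subgroup is `1` modulo `p`. -/
theorem conj_exponent_modEq_one (hG : IsPGroup p G) {g a : G} {k : ℤ} (ha : a ≠ 1)
    (h : g * a * g⁻¹ = a ^ k) : (p : ℤ) ∣ k - 1 := by
  obtain ⟨m, hm⟩ := hG g
  obtain ⟨n, hn⟩ := IsPGroup.iff_orderOf.mp hG a
  have hn1 : n ≠ 0 := fun h0 => ha (orderOf_eq_one_iff.mp (by rw [hn, h0, pow_zero]))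
  have h1 := conj_pow_eq h (p ^ m)
  rw [hm, inv_one, one_mul, mul_one] at h1
  have h2 : a ^ (k ^ (p ^ m) - 1) = 1 := by rw [zpow_sub, zpow_one, ← h1, mul_inv_cancel]
  have h3 : ((p : ℤ)) ∣ k ^ (p ^ m) - 1 :=
    (dvd_pow_self (p : ℤ) hn1).trans (by
      have := orderOf_dvd_iff_zpow_eq_one.mpr h2
      rwa [hn, Nat.cast_pow] at this)
  rw [← ZMod.intCast_zmod_eq_zero_iff_dvd, Int.cast_sub, Int.cast_pow, ZMod.pow_card_pow] at h3
  rwa [← ZMod.intCast_zmod_eq_zero_iff_dvd, Int.cast_sub]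

/-- An element of order dividing `p` of a cyclic normal subgroup of a `p`-group is central. -/
theorem central_of_mem_cyclic_normal (hG : IsPGroup p G) {N : Subgroup G} [hN : N.Normal]
    (hc : IsCyclic ↥N) {e : G} (he : e ∈ N) (hep : e ^ p = 1) : e ∈ Subgroup.center G := by
  rcases eq_or_ne e 1 with rfl | he1
  · exact one_mem _
  refine Subgroup.mem_center_iff.mpr fun g => ?_
  have ho : orderOf e = p := orderOf_eq_prime hep he1
  obtain ⟨k, hk⟩ := mem_zpowers_of_isCyclic hc he (hN.conj_mem e he g)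
    (by rw [ho, conj_pow, hep]; group)
  have hk : g * e * g⁻¹ = e ^ k := hk.symm
  have hd := conj_exponent_modEq_one hG he1 hk
  have h2 : e ^ (k - 1) = 1 := orderOf_dvd_iff_zpow_eq_one.mp (by rw [ho]; exact hd)
  rw [zpow_sub, zpow_one, mul_inv_eq_one] at h2
  rw [h2] at hk
  exact mul_inv_eq_iff_eq_mul.mp hk

/-- If all commutators with `y` lie in a central subgroup of exponent `p`, the Frattini subgroup centralizes `y`. -/
theorem frattini_le_centralizer_of_commutator {z y : G} (hz : z ∈ Subgroup.center G) (hzp : z ^ p = 1)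
    (h : ∀ g : G, ⁅g, y⁆ ∈ Subgroup.zpowers z) : frattini G ≤ Subgroup.centralizer ({y} : Set G) := by
  have hzc : Subgroup.zpowers z ≤ Subgroup.center G := Subgroup.zpowers_le.mpr hz
  let φ : G →* ↥(Subgroup.zpowers z) :=
    { toFun := fun g => ⟨⁅g, y⁆, h g⟩
      map_one' := Subtype.ext (by simp)
      map_mul' := fun a b => Subtype.ext (by
        show ⁅a * b, y⁆ = ⁅a, y⁆ * ⁅b, y⁆
        have hb := Subgroup.mem_center_iff.mp (hzc (h b))
        calc ⁅a * b, y⁆ = a * ⁅b, y⁆ * a⁻¹ * ⁅a, y⁆ := by simp only [commutatorElement_def]; group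
          _ = ⁅a, y⁆ * ⁅b, y⁆ := by rw [hb a, mul_inv_cancel_right, hb]) }
  have hle : frattini G ≤ φ.ker := CfsgLib.PGroup.frattini_le_of_elementary (p := p)
    (fun a b => by
      rw [MonoidHom.mem_ker, map_commutatorElement]
      exact commutatorElement_eq_one_iff_mul_comm.mpr (Subtype.ext (Subgroup.mem_center_iff.mp (hzc (φ b).2) _)))
    (fun a => by
      rw [MonoidHom.mem_ker, map_pow]
      obtain ⟨i, hi⟩ := (φ a).2
      refine Subtype.ext ?_
      rw [SubmonoidClass.coe_pow, ← hi, ← zpow_natCast, ← zpow_mul, mul_comm, zpow_mul, zpow_natCast, hzp, one_zpow]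
      rfl)
  intro g hg
  have : (⁅g, y⁆ : G) = 1 := congrArg Subtype.val (MonoidHom.mem_ker.mp (hle hg))
  exact Subgroup.mem_centralizer_singleton_iff.mpr (commutatorElement_eq_one_iff_mul_comm.mp this)

/-- Between normal subgroups there is an element that is central of order `p` modulo the smaller one. -/
theorem exists_central_mod (hG : IsPGroup p G) {A K : Subgroup G} [hA : A.Normal] [hK : K.Normal]
    (hle : A ≤ K) (hne : A ≠ K) : ∃ x ∈ K, x ∉ A ∧ x ^ p ∈ A ∧ ∀ g : G, ⁅g, x⁆ ∈ A := by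
  set π := QuotientGroup.mk' A
  set K' := K.map π
  haveI : K'.Normal := hK.map π (QuotientGroup.mk'_surjective A)
  have hne' : K' ≠ ⊥ := by
    intro h
    rw [Subgroup.map_eq_bot_iff, QuotientGroup.ker_mk'] at h
    exact hne (le_antisymm hle h)
  have hQ : IsPGroup p (G ⧸ A) := hG.to_quotient A
  obtain ⟨u, hu, hu1⟩ : ∃ u ∈ K' ⊓ Subgroup.center (G ⧸ A), u ≠ 1 := by
    refine (Subgroup.bot_or_exists_ne_one _).resolve_left ?_
    exact CfsgLib.PGroup.inf_center_ne_bot hQ K' hne'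
  obtain ⟨j, hj⟩ := IsPGroup.iff_orderOf.mp hQ u
  have hj1 : 0 < j := Nat.pos_of_ne_zero fun h0 => hu1 (orderOf_eq_one_iff.mp (by rw [hj, h0, pow_zero]))
  set v := u ^ p ^ (j - 1)
  have hv1 : v ≠ 1 := pow_ne_one_of_lt_orderOf (pow_ne_zero _ hp.out.ne_zero)
    (hj ▸ Nat.pow_lt_pow_right hp.out.one_lt (by omega))
  have hvp : v ^ p = 1 := by
    rw [← pow_mul, ← pow_succ, show j - 1 + 1 = j by omega, ← hj, pow_orderOf_eq_one]
  obtain ⟨x, hx, hxv⟩ := (Subgroup.mem_inf.mp ((K' ⊓ Subgroup.center (G ⧸ A)).pow_mem hu (p ^ (j - 1)))).1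
  have hxv : π x = v := hxv
  refine ⟨x, hx, fun hxA => hv1 ?_, ?_, fun g => ?_⟩
  · rw [← hxv]; exact (QuotientGroup.eq_one_iff x).mpr hxA
  · rw [← QuotientGroup.eq_one_iff, QuotientGroup.mk_pow]
    show π x ^ p = 1
    rw [hxv]
    exact hvp
  · rw [← QuotientGroup.eq_one_iff]
    have hc : v ∈ Subgroup.center (G ⧸ A) := (Subgroup.center _).pow_mem (Subgroup.mem_inf.mp hu).2 _
    show π ⁅g, x⁆ = 1
    rw [map_commutatorElement, hxv]
    exact commutatorElement_eq_one_iff_mul_comm.mpr (Subgroup.mem_center_iff.mp hc _)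

/-- An abelian `p`-group with at most one subgroup of order `p` is cyclic. -/
theorem isCyclic_of_comm_unique {H : Subgroup G} (hG : IsPGroup p G) (hc : ∀ a ∈ H, ∀ b ∈ H, a * b = b * a)
    {z : G} (h : ∀ x ∈ H, x ^ p = 1 → x ∈ Subgroup.zpowers z) (hz : z ^ p = 1) : IsCyclic ↥H := by
  have key : ∀ x : ↥H, orderOf x = p → ((x : G) ∈ Subgroup.zpowers z ∧ orderOf (x : G) = p) := fun x hx => by
    rw [← Subgroup.orderOf_coe] at hx
    exact ⟨h x x.2 (by rw [← hx]; exact pow_orderOf_eq_one _), hx⟩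
  have hsub : ∀ x y : ↥H, orderOf x = p → orderOf y = p → y ∈ Subgroup.zpowers x := by
    intro x y hx hy
    obtain ⟨hxz, hxo⟩ := key x hx
    obtain ⟨hyz, -⟩ := key y hy
    obtain ⟨k, hk⟩ := mem_zpowers_of_isCyclic (N := Subgroup.zpowers z) inferInstance hxz hyz
      (by rw [hxo]; obtain ⟨i, hi⟩ := hyz; rw [← hi, ← zpow_natCast, ← zpow_mul, mul_comm, zpow_mul, zpow_natCast, hz, one_zpow])
    exact ⟨k, Subtype.ext (by simpa using hk)⟩
  rcases eq_or_ne p 2 with rfl | hp2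
  · refine CfsgLib.TwoGroup.isCyclic_of_comm_atMostOneInvolution (hG.to_subgroup H)
      (fun a b => Subtype.ext (hc a a.2 b b.2)) fun x y hx hy => ?_
    obtain ⟨k, hk'⟩ := hsub x y hx hy
    have hk' : x ^ k = y := hk'
    subst hk'
    rcases Int.emod_two_eq k with hk | hk
    · exfalso
      rw [← zpow_mod_orderOf, hx] at hy
      simp only [Nat.cast_ofNat, hk, zpow_zero, orderOf_one] at hy
      omega
    · rw [show x ^ k = x ^ ((1 : ℕ) : ℤ) by rw [← zpow_mod_orderOf, hx]; simp [hk]]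
      simp
  · exact CfsgLib.PGroup.isCyclic_of_unique_subgroup hp2 (hG.to_subgroup H) hsub

omit [Finite G] hp in
theorem conj_mul_pow {a y : G} {u : ℤ} (h : y * a * y⁻¹ = a ^ u) (i : ℤ) (k : ℕ) :
    (a ^ i * y) ^ k = a ^ (i * ∑ j ∈ Finset.range k, u ^ j) * y ^ k := by
  induction k with
  | zero => simp
  | succ k ih =>
    calc (a ^ i * y) ^ (k + 1) = a ^ i * y * (a ^ i * y) ^ k := pow_succ' _ _
      _ = a ^ i * (y * a ^ (i * ∑ j ∈ Finset.range k, u ^ j) * y⁻¹) * y ^ (k + 1) := by rw [ih, pow_succ']; group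
      _ = _ := by
        rw [← conj_zpow, h, ← zpow_mul, ← zpow_add, geom_sum_succ]
        congr 2
        ring

theorem geom_sum_eq_of_dvd {u : ℤ} (hu : (p : ℤ) ^ 2 ∣ u - 1) :
    ∃ t : ℤ, ∑ j ∈ Finset.range p, u ^ j = p * (1 + p * t) := by
  have h : (p : ℤ) ^ 2 ∣ (∑ j ∈ Finset.range p, u ^ j) - p := by
    have : ((∑ j ∈ Finset.range p, u ^ j) - p) = ∑ j ∈ Finset.range p, (u ^ j - 1) := by
      rw [Finset.sum_sub_distrib]; simp
    rw [this]
    exact Finset.dvd_sum fun j _ => hu.trans (sub_one_dvd_pow_sub_one u j)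
  obtain ⟨t, ht⟩ := h
  exact ⟨t, by linear_combination ht⟩

/-- Burnside's theorem. -/
theorem isCyclic_of_le_frattini (hG : IsPGroup p G) {N : Subgroup G} [hN : N.Normal] (hNF : N ≤ frattini G)
    (hZ : IsCyclic ↥(N ⊓ Subgroup.centralizer (N : Set G))) : IsCyclic ↥N := by
  -- no normal subgroup of type `(p, p)` inside `N`
  have hpp : ∀ z ∈ N, ∀ y ∈ N, z ∈ Subgroup.center G → z ≠ 1 → z ^ p = 1 → y ^ p = 1 →
      (∀ g : G, ⁅g, y⁆ ∈ Subgroup.zpowers z) → y ∈ Subgroup.zpowers z := by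
    intro z hzN y hyN hz hz1 hzp hyp h
    have hyC : y ∈ N ⊓ Subgroup.centralizer (N : Set G) := Subgroup.mem_inf.mpr ⟨hyN,
      Subgroup.mem_centralizer_iff.mpr fun n hn => Subgroup.mem_centralizer_singleton_iff.mp
        (frattini_le_centralizer_of_commutator hz hzp h (hNF hn))⟩
    exact mem_zpowers_of_isCyclic hZ (Subgroup.mem_inf.mpr ⟨hzN, Subgroup.center_le_centralizer _ hz⟩) hyC
      (by rw [orderOf_eq_prime hzp hz1]; exact hyp)
  let S := {A : Subgroup G // A ≤ N ∧ A.Normal ∧ ∀ a ∈ A, ∀ b ∈ A, a * b = b * a}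
  haveI : Nonempty S := ⟨⟨⊥, bot_le, inferInstance, fun a ha b hb => by
    rw [Subgroup.mem_bot.mp ha, Subgroup.mem_bot.mp hb]⟩⟩
  obtain ⟨⟨A, hAN, hAn, hAc⟩, hmax⟩ := Finite.exists_max fun A : S => Nat.card ↥A.1
  haveI := hAn
  have hself : ∀ x ∈ N, x ∈ Subgroup.centralizer (A : Set G) → x ∈ A := by
    set K := N ⊓ Subgroup.centralizer (A : Set G)
    have hAK : A ≤ K := le_inf hAN fun a ha => Subgroup.mem_centralizer_iff.mpr fun b hb => hAc b hb a ha
    haveI : K.Normal := by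
      haveI : (Subgroup.centralizer (A : Set G)).Normal := Subgroup.normal_centralizer
      infer_instance
    intro x hx hxC
    by_contra hxA
    obtain ⟨w, hw, hwA, -, hwc⟩ := exists_central_mod hG hAK fun he => hxA (he ▸ Subgroup.mem_inf.mpr ⟨hx, hxC⟩)
    have hwC : ∀ a ∈ A, a * w = w * a := fun a ha =>
      Subgroup.mem_centralizer_iff.mp (Subgroup.mem_inf.mp hw).2 a ha
    let B := A ⊔ Subgroup.zpowers w
    have hBn : B.Normal := by
      constructor
      intro b hb g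
      have hle : B.map (MulAut.conj g).toMonoidHom ≤ B := by
        rw [Subgroup.map_sup, MonoidHom.map_zpowers, sup_le_iff, Subgroup.zpowers_le]
        refine ⟨?_, ?_⟩
        · rintro _ ⟨a, ha, rfl⟩
          exact le_sup_left (a := A) (hAn.conj_mem a ha g)
        · show g * w * g⁻¹ ∈ B
          rw [show g * w * g⁻¹ = ⁅g, w⁆ * w by simp [commutatorElement_def]]
          exact mul_mem (le_sup_left (a := A) (hwc g)) (le_sup_right (a := A) (Subgroup.mem_zpowers w))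
      exact hle ⟨b, hb, rfl⟩
    have hBc : ∀ a ∈ B, ∀ b ∈ B, a * b = b * a := by
      have : IsMulCommutative ↥B := by
        rw [show B = Subgroup.closure ((A : Set G) ∪ {w}) by
          rw [Subgroup.closure_union, Subgroup.closure_eq, ← Subgroup.zpowers_eq_closure]]
        refine Subgroup.isMulCommutative_closure fun a ha b hb => ?_
        rcases ha with ha | rfl <;> rcases hb with hb | rfl
        · exact hAc a ha b hb
        · exact hwC a ha
        · exact (hwC b hb).symm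
        · rfl
      intro a ha b hb
      exact congrArg Subtype.val (this.is_comm.comm ⟨a, ha⟩ ⟨b, hb⟩)
    have hBN : B ≤ N := sup_le hAN (Subgroup.zpowers_le.mpr (Subgroup.mem_inf.mp hw).1)
    have heq : A = B := Subgroup.eq_of_le_of_card_ge le_sup_left (hmax ⟨B, hBN, hBn, hBc⟩)
    exact hwA (heq ▸ le_sup_right (a := A) (Subgroup.mem_zpowers w))
  rcases eq_or_ne A ⊥ with hA | hA
  · have hNb : N = ⊥ := by
      rw [eq_bot_iff, ← hA]
      exact fun x hx => hself x hx (by rw [hA]; simp [Subgroup.mem_centralizer_iff])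
    subst hNb
    exact isCyclic_of_subsingleton
  obtain ⟨z, hz, hz1⟩ := (Subgroup.bot_or_exists_ne_one _).resolve_left
    (CfsgLib.PGroup.inf_center_ne_bot hG A hA)
  obtain ⟨hzA, hzC⟩ := Subgroup.mem_inf.mp hz
  obtain ⟨z, hzA, hzC, hz1, hzp⟩ : ∃ z, z ∈ A ∧ z ∈ Subgroup.center G ∧ z ≠ 1 ∧ z ^ p = 1 := by
    obtain ⟨j, hj⟩ := IsPGroup.iff_orderOf.mp hG z
    have hj1 : 0 < j := Nat.pos_of_ne_zero fun h0 => hz1 (orderOf_eq_one_iff.mp (by rw [hj, h0, pow_zero]))
    refine ⟨z ^ p ^ (j - 1), A.pow_mem hzA _, (Subgroup.center G).pow_mem hzC _, pow_ne_one_of_lt_orderOf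
      (pow_ne_zero _ hp.out.ne_zero) (hj ▸ Nat.pow_lt_pow_right hp.out.one_lt (by omega)), ?_⟩
    rw [← pow_mul, ← pow_succ, show j - 1 + 1 = j by omega, ← hj, pow_orderOf_eq_one]
  -- `A` is cyclic
  have hAcyc : IsCyclic ↥A := by
    let W : Subgroup G :=
      { carrier := {x | x ∈ A ∧ x ^ p = 1}
        one_mem' := ⟨one_mem _, one_pow p⟩
        mul_mem' := fun {a b} ha hb => ⟨A.mul_mem ha.1 hb.1, by
          rw [Commute.mul_pow (hAc a ha.1 b hb.1), ha.2, hb.2, one_mul]⟩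
        inv_mem' := fun {a} ha => ⟨A.inv_mem ha.1, by rw [inv_pow, ha.2, inv_one]⟩ }
    haveI : W.Normal := ⟨fun x hx g => ⟨hAn.conj_mem x hx.1 g, by rw [conj_pow, hx.2]; group⟩⟩
    haveI : (Subgroup.zpowers z).Normal := ⟨fun x hx g => by
      rw [Subgroup.mem_center_iff.mp (Subgroup.zpowers_le.mpr hzC hx) g, mul_inv_cancel_right]; exact hx⟩
    have hzW : Subgroup.zpowers z ≤ W := Subgroup.zpowers_le.mpr ⟨hzA, hzp⟩
    by_cases hW : Subgroup.zpowers z = W
    · exact isCyclic_of_comm_unique hG hAc (fun x hx hxp => hW ▸ (⟨hx, hxp⟩ : x ∈ W)) hzp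
    · obtain ⟨y, hy, hyz, -, hyc⟩ := exists_central_mod hG hzW hW
      exact absurd (hpp z (hAN hzA) y (hAN hy.1) hzC hz1 hzp hy.2 hyc) hyz
  by_cases hNA : A = N
  · exact hNA ▸ hAcyc
  exfalso
  obtain ⟨y, hyN, hyA, hyp, hyc⟩ := exists_central_mod hG hAN hNA
  haveI := hAcyc
  obtain ⟨a, ha⟩ := IsCyclic.exists_generator (α := ↥A)
  have haA : (a : G) ∈ A := a.2
  have hgen : ∀ x ∈ A, x ∈ Subgroup.zpowers (a : G) := by
    intro x hx
    obtain ⟨i, hi⟩ := ha ⟨x, hx⟩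
    exact ⟨i, by simpa using congrArg Subtype.val hi⟩
  generalize (a : G) = a at haA hgen
  obtain ⟨n, hn⟩ := IsPGroup.iff_orderOf.mp hG a
  have ha1 : a ≠ 1 := by
    rintro rfl
    obtain ⟨i, hi⟩ := hgen z hzA
    exact hz1 (by simpa using hi.symm)
  obtain ⟨u, hu⟩ := hgen _ (hAn.conj_mem a haA y)
  have hu : y * a * y⁻¹ = a ^ u := hu.symm
  have hdvd : ∀ i : ℤ, a ^ i = 1 ↔ (p : ℤ) ^ n ∣ i := fun i => by
    rw [← orderOf_dvd_iff_zpow_eq_one, hn, Nat.cast_pow]
  have hnotfix : ¬ (p : ℤ) ^ n ∣ u - 1 := by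
    intro h
    refine hyA (hself y hyN (Subgroup.mem_centralizer_iff.mpr fun x hx => ?_))
    obtain ⟨i, rfl⟩ := hgen x hx
    have h1 := (hdvd _).mpr h
    rw [zpow_sub, zpow_one, mul_inv_eq_one] at h1
    rw [h1] at hu
    exact ((show Commute y a from mul_inv_eq_iff_eq_mul.mp hu).zpow_right i).symm.eq
  obtain ⟨n, rfl⟩ : ∃ m, n = m + 2 := by
    refine ⟨n - 2, ?_⟩
    have h0 : n ≠ 0 := fun h0 => ha1 (orderOf_eq_one_iff.mp (by rw [hn, h0, pow_zero]))
    by_contra h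
    obtain rfl : n = 1 := by omega
    exact hnotfix (by rw [pow_one]; exact conj_exponent_modEq_one hG ha1 hu)
  have hp0 : (p : ℤ) ≠ 0 := by exact_mod_cast hp.out.ne_zero
  -- `y` centralizes the subgroup of order `p ^ 2` of `A`
  have hu2 : (p : ℤ) ^ 2 ∣ u - 1 := by
    set a2 := a ^ ((p : ℤ) ^ n) with ha2
    set z2 := a ^ ((p : ℤ) ^ (n + 1)) with hz2
    have hz2p : z2 ^ p = 1 := by
      rw [hz2, ← zpow_natCast, ← zpow_mul, hdvd]
      exact ⟨1, by ring⟩
    have hz2c : z2 ∈ Subgroup.center G :=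
      central_of_mem_cyclic_normal hG hAcyc (A.zpow_mem haA _) hz2p
    have ha2ne : a2 ≠ 1 := by
      rw [ha2, Ne, hdvd]
      intro h
      exact absurd ((Int.natCast_dvd_natCast).mp (by exact_mod_cast h : ((p ^ (n + 2) : ℕ) : ℤ) ∣ ((p ^ n : ℕ) : ℤ)))
        (fun h' => absurd ((Nat.pow_dvd_pow_iff_le_right hp.out.one_lt).mp h') (by omega))
    have hcomm : ∀ g : G, ⁅g, a2⁆ ∈ Subgroup.zpowers z2 := by
      intro g
      obtain ⟨k, hk⟩ := hgen _ (hAn.conj_mem a haA g)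
      have hk : g * a * g⁻¹ = a ^ k := hk.symm
      obtain ⟨t, ht⟩ := conj_exponent_modEq_one hG ha1 hk
      refine ⟨t, ?_⟩
      show z2 ^ t = ⁅g, a2⁆
      rw [commutatorElement_def, ha2, ← conj_zpow, hk, ← zpow_mul, ← zpow_mul, ← zpow_neg, ← zpow_add]
      congr 1
      linear_combination -((p : ℤ) ^ n) * ht
    have hya := Subgroup.mem_centralizer_singleton_iff.mp
      (frattini_le_centralizer_of_commutator hz2c hz2p hcomm (hNF hyN))
    have h1 : a ^ ((p : ℤ) ^ n * (u - 1)) = 1 := by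
      rw [mul_sub, mul_one, zpow_sub, mul_comm ((p : ℤ) ^ n) u, zpow_mul, ← hu, conj_zpow, ← ha2, hya]
      group
    rw [hdvd, pow_add] at h1
    exact Int.dvd_of_mul_dvd_mul_left (pow_ne_zero _ hp0) h1
  obtain ⟨t, ht⟩ := geom_sum_eq_of_dvd hu2
  have hcop : IsCoprime (1 + (p : ℤ) * t) ((p : ℤ) ^ (n + 1)) :=
    (show IsCoprime (1 + (p : ℤ) * t) (p : ℤ) from ⟨1, -t, by ring⟩).pow_right
  obtain ⟨s, hs⟩ := hgen _ hyp
  have hs : y ^ p = a ^ s := hs.symm
  have hun : (p : ℤ) ^ (n + 1) ∣ u - 1 := by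
    have h1 := conj_pow_eq hu p
    rw [hs, show a ^ s * a * (a ^ s)⁻¹ = a by group] at h1
    have h2 : (p : ℤ) ^ (n + 2) ∣ u ^ p - 1 := (hdvd _).mp (by rw [zpow_sub, zpow_one, ← h1, mul_inv_cancel])
    rw [← geom_sum_mul, ht, pow_succ', mul_assoc] at h2
    exact (hcop.symm).dvd_of_dvd_mul_left (Int.dvd_of_mul_dvd_mul_left hp0 h2)
  obtain ⟨w, hw⟩ := hun
  have hps : (p : ℤ) ∣ s := by
    have h1 : a ^ (s * (u - 1)) = 1 := by
      rw [mul_sub, mul_one, zpow_sub, mul_comm s u, zpow_mul, ← hu, conj_zpow, ← hs]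
      group
    rw [hdvd, hw, show s * ((p : ℤ) ^ (n + 1) * w) = (p : ℤ) ^ (n + 1) * (s * w) by ring, pow_succ (p : ℤ) (n + 1)] at h1
    rcases (Int.Prime.dvd_mul' hp.out (Int.dvd_of_mul_dvd_mul_left (pow_ne_zero _ hp0) h1)) with h | h
    · exact h
    · obtain ⟨w', rfl⟩ := h
      exact absurd ⟨w', by rw [hw]; ring⟩ hnotfix
  obtain ⟨s', rfl⟩ := hps
  obtain ⟨c, e, hce⟩ := hcop
  have hy' : ∀ j : ℤ, (a ^ j * y) ^ p = a ^ ((p : ℤ) * (j * (1 + p * t) + s')) := fun j => by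
    rw [conj_mul_pow hu, ht, hs, ← zpow_add]
    congr 1
    ring
  set i := -(s' * c) with hidef
  have hy'1 : (a ^ i * y) ^ p = 1 := by
    rw [hy', hdvd]
    refine ⟨s' * e, ?_⟩
    rw [hidef, pow_succ']
    linear_combination (-(p : ℤ) * s') * hce
  set z2 := a ^ ((p : ℤ) ^ (n + 1)) with hz2
  have hz2p : z2 ^ p = 1 := by
    rw [hz2, ← zpow_natCast, ← zpow_mul, hdvd]
    exact ⟨1, by ring⟩
  have hz21 : z2 ≠ 1 := by
    rw [hz2, Ne, hdvd, pow_succ _ (n + 1)]
    intro h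
    have := Int.dvd_of_mul_dvd_mul_left (pow_ne_zero (n + 1) hp0) (h.trans (dvd_of_eq (mul_one _).symm))
    exact hp.out.not_dvd_one (by exact_mod_cast this)
  have hcomm : ∀ g : G, ⁅g, a ^ i * y⁆ ∈ Subgroup.zpowers z2 := by
    intro g
    have hmem : ⁅g, a ^ i * y⁆ ∈ A := by
      rw [show ⁅g, a ^ i * y⁆ = g * a ^ i * g⁻¹ * ⁅g, y⁆ * (a ^ i)⁻¹ by simp only [commutatorElement_def]; group]
      exact mul_mem (mul_mem (hAn.conj_mem _ (A.zpow_mem haA i) g) (hyc g)) (inv_mem (A.zpow_mem haA i))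
    obtain ⟨j, hj⟩ := hgen _ hmem
    have hj : ⁅g, a ^ i * y⁆ = a ^ j := hj.symm
    have h1 : (a ^ (j + i) * y) ^ p = 1 := by
      rw [zpow_add, mul_assoc, ← hj, show ⁅g, a ^ i * y⁆ * (a ^ i * y) = g * (a ^ i * y) * g⁻¹ by
        simp only [commutatorElement_def]; group, conj_pow, hy'1]
      group
    have h2 := hy'1
    rw [hy', hdvd] at h1 h2
    have h3 := dvd_sub h1 h2
    rw [show (p : ℤ) * ((j + i) * (1 + p * t) + s') - (p : ℤ) * (i * (1 + p * t) + s') = p * (j * (1 + p * t)) by ring,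
      pow_succ'] at h3
    obtain ⟨k, hk⟩ := (IsCoprime.symm (show IsCoprime (1 + (p : ℤ) * t) ((p : ℤ) ^ (n + 1)) from ⟨c, e, hce⟩)).dvd_of_dvd_mul_right
      (Int.dvd_of_mul_dvd_mul_left hp0 h3)
    refine ⟨k, ?_⟩
    show z2 ^ k = _
    rw [hj, hz2, ← zpow_mul, hk]
  obtain ⟨k, hk⟩ := hpp z2 (hAN (A.zpow_mem haA _)) _ (N.mul_mem (hAN (A.zpow_mem haA i)) hyN)
    (central_of_mem_cyclic_normal hG hAcyc (A.zpow_mem haA _) hz2p) hz21 hz2p hy'1 hcomm
  refine hyA ?_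
  have hm : a ^ i * y ∈ A := hk ▸ A.zpow_mem (A.zpow_mem haA _) k
  simpa using A.mul_mem (A.inv_mem (A.zpow_mem haA i)) hm

end CfsgLib.SymplecticType
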