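import Mathlib
import Cfsg.Agent.SymplecticType.Burnside
import Cfsg.Agent.PGroup.Extraspecial
import Cfsg.Agent.Eq.Def_Transfer

/-!
A subgroup `E` of a `p`-group with `[G, E] ≤ ⟨z⟩ = Z(E)` of order `p` is a central factor.
-/

set_option autoImplicit false

open scoped commutatorElement

namespace CfsgLib.SymplecticType

variable {G : Type*} [Group G] [Finite G] {p : ℕ} [hp : Fact p.Prime]

/-- The Hall conclusion for a factor `R`. -/
def IsHallFactor (p : ℕ) (R : Subgroup G) : Prop :=
  IsCyclic R ∨ (p = 2 ∧ 16 ≤ Nat.card R ∧ ((∃ m : ℕ, Nonempty (↥R ≃* DihedralGroup m)) ∨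
    (∃ m : ℕ, Nonempty (↥R ≃* QuaternionGroup m)) ∨ Cfsg.IsQuasiDihedral ↥R))

omit [Finite G] hp in
theorem inf_centralizer_comm (H : Subgroup G) : ∀ a ∈ H ⊓ Subgroup.centralizer (H : Set G),
    ∀ b ∈ H ⊓ Subgroup.centralizer (H : Set G), a * b = b * a :=
  fun _ ha _ hb => Subgroup.mem_centralizer_iff.mp (Subgroup.mem_inf.mp hb).2 _ (Subgroup.mem_inf.mp ha).1

omit [Finite G] hp in
theorem inf_centralizer_characteristic (H : Subgroup G) [hH : H.Characteristic] :
    (H ⊓ Subgroup.centralizer (H : Set G)).Characteristic := by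
  refine Subgroup.characteristic_iff_map_le.mpr fun φ => ?_
  rintro _ ⟨x, hx, rfl⟩
  have hxH := Subgroup.mem_inf.mp hx
  refine Subgroup.mem_inf.mpr ⟨Subgroup.characteristic_iff_map_le.mp hH φ ⟨x, hxH.1, rfl⟩,
    Subgroup.mem_centralizer_iff.mpr fun h hh => ?_⟩
  have h' : φ.symm h ∈ H := Subgroup.characteristic_iff_map_le.mp hH φ.symm ⟨h, hh, rfl⟩
  have := congrArg φ (Subgroup.mem_centralizer_iff.mp hxH.2 _ h')
  rwa [map_mul, map_mul, φ.apply_symm_apply] at this

/-- The centre of a characteristic subgroup is cyclic. -/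
theorem isCyclic_inf_centralizer (hsymp : ∀ A : Subgroup G, A.Characteristic → IsMulCommutative A → IsCyclic A)
    (H : Subgroup G) [H.Characteristic] : IsCyclic ↥(H ⊓ Subgroup.centralizer (H : Set G)) :=
  hsymp _ (inf_centralizer_characteristic H)
    ⟨⟨fun a b => Subtype.ext (inf_centralizer_comm H a a.2 b b.2)⟩⟩

theorem card_zpowers_eq {z : G} (hz1 : z ≠ 1) (hzp : z ^ p = 1) : Nat.card ↥(Subgroup.zpowers z) = p := by
  rw [Nat.card_zpowers, orderOf_eq_prime hzp hz1]

theorem index_centralizer_singleton_le {z x : G} (hz : z ∈ Subgroup.center G) (hz1 : z ≠ 1) (hzp : z ^ p = 1)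
    (h : ∀ g : G, ⁅g, x⁆ ∈ Subgroup.zpowers z) : (Subgroup.centralizer ({x} : Set G)).index ≤ p := by
  let φ : G →* ↥(Subgroup.zpowers z) :=
    { toFun := fun g => ⟨⁅g, x⁆, h g⟩
      map_one' := Subtype.ext (by simp)
      map_mul' := fun a b => Subtype.ext (by
        show ⁅a * b, x⁆ = ⁅a, x⁆ * ⁅b, x⁆
        have hb := Subgroup.mem_center_iff.mp ((Subgroup.zpowers_le.mpr hz) (h b))
        calc ⁅a * b, x⁆ = a * ⁅b, x⁆ * a⁻¹ * ⁅a, x⁆ := by simp only [commutatorElement_def]; group
          _ = ⁅a, x⁆ * ⁅b, x⁆ := by rw [hb a, mul_inv_cancel_right, hb]) }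
  have hle : φ.ker ≤ Subgroup.centralizer ({x} : Set G) := fun g hg =>
    Subgroup.mem_centralizer_singleton_iff.mpr
      (commutatorElement_eq_one_iff_mul_comm.mp (congrArg Subtype.val (MonoidHom.mem_ker.mp hg)))
  calc (Subgroup.centralizer ({x} : Set G)).index ≤ φ.ker.index :=
        Nat.le_of_dvd (Nat.pos_of_ne_zero Subgroup.index_ne_zero_of_finite) (Subgroup.index_dvd_of_le hle)
    _ = Nat.card φ.range := Subgroup.index_ker φ
    _ ≤ Nat.card ↥(Subgroup.zpowers z) := Subgroup.card_le_card_group _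
    _ = p := card_zpowers_eq hz1 hzp

/-- `E` is a central factor. -/
theorem sup_centralizer_eq_top (hG : IsPGroup p G) {z : G} (hz : z ∈ Subgroup.center G) (hz1 : z ≠ 1)
    (hzp : z ^ p = 1) {E : Subgroup G} (hzE : z ∈ E) (h : ∀ g : G, ∀ x ∈ E, ⁅g, x⁆ ∈ Subgroup.zpowers z)
    (hZE : ∀ x ∈ E, x ∈ Subgroup.centralizer (E : Set G) → x ∈ Subgroup.zpowers z) :
    E ⊔ Subgroup.centralizer (E : Set G) = ⊤ := by
  classical
  have key : ∀ s : Finset G, (∀ x ∈ s, x ∈ E) →
      (Subgroup.centralizer ((Subgroup.closure (insert z (s : Set G)) : Subgroup G) : Set G)).index * p ≤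
        Nat.card ↥(Subgroup.closure (insert z (s : Set G))) := by
    intro s
    induction s using Finset.induction_on with
    | empty =>
      intro _
      rw [Finset.coe_empty, insert_empty_eq, ← Subgroup.zpowers_eq_closure, card_zpowers_eq hz1 hzp,
        Subgroup.index_eq_one.mpr (Subgroup.eq_top_iff' _ |>.mpr fun g => Subgroup.mem_centralizer_iff.mpr
          fun w hw => (Subgroup.mem_center_iff.mp (Subgroup.zpowers_le.mpr hz hw) g).symm), one_mul]
    | @insert x s hxs ih =>
      intro hs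
      have ih := ih fun y hy => hs y (Finset.mem_insert_of_mem hy)
      set D := Subgroup.closure (insert z (s : Set G))
      set D' := Subgroup.closure (insert z ((insert x s : Finset G) : Set G))
      have hD' : D' = D ⊔ Subgroup.zpowers x := by
        show Subgroup.closure _ = _
        rw [Subgroup.zpowers_eq_closure, ← Subgroup.closure_union, Finset.coe_insert]
        congr 1
        ext y
        simp only [Set.mem_insert_iff, Set.mem_union, Set.mem_singleton_iff]
        tauto
      by_cases hxD : x ∈ D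
      · rw [hD', sup_eq_left.mpr (Subgroup.zpowers_le.mpr hxD)]
        exact ih
      · have hlt : D < D' := by
          rw [hD']
          exact lt_of_le_of_ne le_sup_left fun he => hxD (he ▸ le_sup_right (a := D) (Subgroup.mem_zpowers x))
        have hcard : p * Nat.card ↥D ≤ Nat.card ↥D' := by
          obtain ⟨i, hi⟩ := IsPGroup.iff_card.mp (hG.to_subgroup D)
          obtain ⟨j, hj⟩ := IsPGroup.iff_card.mp (hG.to_subgroup D')
          have h1 : Nat.card ↥D < Nat.card ↥D' := by
            refine lt_of_le_of_ne (Subgroup.card_le_of_le hlt.le) fun he => hlt.ne ?_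
            exact Subgroup.eq_of_le_of_card_ge hlt.le he.ge
          rw [hi, hj] at h1 ⊢
          rw [← pow_succ']
          exact Nat.pow_le_pow_right hp.out.pos ((Nat.pow_lt_pow_iff_right hp.out.one_lt).mp h1)
        have hC : Subgroup.centralizer (D : Set G) ⊓ Subgroup.centralizer ({x} : Set G) ≤
            Subgroup.centralizer (D' : Set G) := by
          intro g hg
          refine Subgroup.mem_centralizer_iff.mpr fun w hw => ?_
          have : D' ≤ Subgroup.centralizer ({g} : Set G) := by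
            rw [hD', sup_le_iff, Subgroup.zpowers_le]
            exact ⟨fun d hd => Subgroup.mem_centralizer_singleton_iff.mpr
              (Subgroup.mem_centralizer_iff.mp (Subgroup.mem_inf.mp hg).1 d hd),
              Subgroup.mem_centralizer_singleton_iff.mpr
              (Subgroup.mem_centralizer_singleton_iff.mp (Subgroup.mem_inf.mp hg).2).symm⟩
          exact Subgroup.mem_centralizer_singleton_iff.mp (this hw)
        calc (Subgroup.centralizer (D' : Set G)).index * p
            ≤ (Subgroup.centralizer (D : Set G) ⊓ Subgroup.centralizer ({x} : Set G)).index * p :=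
              Nat.mul_le_mul_right _ (Nat.le_of_dvd (Nat.pos_of_ne_zero Subgroup.index_ne_zero_of_finite)
                (Subgroup.index_dvd_of_le hC))
          _ ≤ (Subgroup.centralizer (D : Set G)).index * (Subgroup.centralizer ({x} : Set G)).index * p :=
              Nat.mul_le_mul_right _ Subgroup.index_inf_le
          _ ≤ (Subgroup.centralizer (D : Set G)).index * p * p :=
              Nat.mul_le_mul_right _ (Nat.mul_le_mul_left _
                (index_centralizer_singleton_le hz hz1 hzp fun g => h g x (hs x (Finset.mem_insert_self _ _))))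
          _ ≤ Nat.card ↥D * p := Nat.mul_le_mul_right _ ih
          _ ≤ Nat.card ↥D' := by rw [mul_comm]; exact hcard
  set C := Subgroup.centralizer (E : Set G)
  have hE := key (Set.toFinite (E : Set G)).toFinset fun x hx => by simpa using hx
  rw [Set.Finite.coe_toFinset, Set.insert_eq_of_mem (show z ∈ (E : Set G) from hzE), Subgroup.closure_eq] at hE
  have hinf : E ⊓ C = Subgroup.zpowers z := le_antisymm
    (fun x hx => hZE x (Subgroup.mem_inf.mp hx).1 (Subgroup.mem_inf.mp hx).2)
    (Subgroup.zpowers_le.mpr (Subgroup.mem_inf.mpr ⟨hzE, Subgroup.center_le_centralizer _ hz⟩))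
  have h1 : (E ⊓ C).relIndex E * p = Nat.card ↥E := by
    have := Subgroup.relIndex_mul_relIndex ⊥ (E ⊓ C) E bot_le inf_le_left
    rw [Subgroup.relIndex_bot_left, Subgroup.relIndex_bot_left, hinf, card_zpowers_eq hz1 hzp, mul_comm] at this
    rw [hinf]
    exact this
  rw [Subgroup.inf_relIndex_left] at h1
  have h2 : C.index ≤ C.relIndex (E ⊔ C) := by
    refine le_trans ?_ (Subgroup.relIndex_le_of_le_right le_sup_left Subgroup.index_ne_zero_of_finite)
    exact Nat.le_of_mul_le_mul_right (h1.symm ▸ hE) hp.out.pos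
  refine Subgroup.eq_top_of_le_card _ ?_
  have h3 := Subgroup.relIndex_mul_relIndex ⊥ C (E ⊔ C) bot_le le_sup_right
  rw [Subgroup.relIndex_bot_left, Subgroup.relIndex_bot_left] at h3
  rw [← h3, ← C.card_mul_index]
  exact Nat.mul_le_mul_left _ h2

/-- Assembling the Hall decomposition from a central factor. -/
theorem exists_decomposition (hG : IsPGroup p G) {z : G} (hz : z ∈ Subgroup.center G) (hz1 : z ≠ 1)
    (hzp : z ^ p = 1) {E : Subgroup G} (hzE : z ∈ E) (h : ∀ g : G, ∀ x ∈ E, ⁅g, x⁆ ∈ Subgroup.zpowers z)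
    (hpow : ∀ x ∈ E, x ^ p ∈ Subgroup.zpowers z)
    (hZE : ∀ x ∈ E, x ∈ Subgroup.centralizer (E : Set G) → x ∈ Subgroup.zpowers z)
    (hR : IsHallFactor p (Subgroup.centralizer (E : Set G))) :
    ∃ E R : Subgroup G, (∀ e ∈ E, ∀ r ∈ R, e * r = r * e) ∧ E ⊔ R = ⊤ ∧
      (E = ⊥ ∨ Cfsg.IsExtraspecial p ↥E) ∧ IsHallFactor p R := by
  by_cases hE : E ≤ Subgroup.zpowers z
  · have htop : Subgroup.centralizer (E : Set G) = ⊤ := (Subgroup.eq_top_iff' _).mpr fun g =>
      Subgroup.mem_centralizer_iff.mpr fun w hw =>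
        (Subgroup.mem_center_iff.mp (Subgroup.zpowers_le.mpr hz (hE hw)) g).symm
    exact ⟨⊥, ⊤, fun e he r _ => by simp [Subgroup.mem_bot.mp he], bot_sup_eq _, Or.inl rfl, htop ▸ hR⟩
  refine ⟨E, _, fun e he r hr => Subgroup.mem_centralizer_iff.mp hr e he,
    sup_centralizer_eq_top hG hz hz1 hzp hzE h hZE, Or.inr ?_, hR⟩
  have hcen : ∀ x : ↥E, x ∈ Subgroup.center ↥E ↔ (x : G) ∈ Subgroup.zpowers z := by
    intro x
    refine ⟨fun hx => hZE x x.2 (Subgroup.mem_centralizer_iff.mpr fun w hw =>
      congrArg Subtype.val (Subgroup.mem_center_iff.mp hx ⟨w, hw⟩)), fun hx => ?_⟩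
    exact Subgroup.mem_center_iff.mpr fun w =>
      Subtype.ext (Subgroup.mem_center_iff.mp (Subgroup.zpowers_le.mpr hz hx) w)
  refine CfsgLib.PGroup.isExtraspecial_of (hG.to_subgroup E) ?_ ?_ (fun a b => (hcen _).mpr ?_)
    (fun a => (hcen _).mpr (hpow a a.2))
  · have : Subgroup.center ↥E = (Subgroup.zpowers z).subgroupOf E := Subgroup.ext fun x => hcen x
    rw [this, Nat.card_congr (Subgroup.subgroupOfEquivOfLe (Subgroup.zpowers_le.mpr hzE)).toEquiv,
      card_zpowers_eq hz1 hzp]
  · by_contra! hne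
    exact hE fun x hx => hZE x hx (Subgroup.mem_centralizer_iff.mpr fun w hw =>
      congrArg Subtype.val (hne ⟨w, hw⟩ ⟨x, hx⟩))
  · exact h a b b.2

end CfsgLib.SymplecticType
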