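import Mathlib
import Cfsg.Agent.SymplecticType.CentralProduct
import Cfsg.Agent.PGroup.Commutator
import Cfsg.Agent.TwoGroup.CyclicIndexTwo
import Cfsg.Agent.TwoGroup.UniqueInvolution
import Cfsg.Agent.Eq.Def_CaseTheorems

/-!
Philip Hall's structure theorem for `p`-groups of symplectic type.
-/

set_option autoImplicit false

open scoped commutatorElement

namespace CfsgLib.SymplecticType

variable {G : Type*} [Group G] [Finite G] {p : ℕ} [hp : Fact p.Prime]

omit [Finite G] hp in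
theorem geom_sum_eq_of_odd {u : ℤ} (hodd : Odd p) (hu : (p : ℤ) ∣ u - 1) :
    ∃ t : ℤ, ∑ j ∈ Finset.range p, u ^ j = p * (1 + p * t) := by
  obtain ⟨k, hk⟩ := hu
  have hj : ∀ j : ℕ, (p : ℤ) ^ 2 ∣ u ^ j - 1 - j * (u - 1) := by
    intro j
    induction j with
    | zero => simp
    | succ j ih =>
      obtain ⟨m, hm⟩ := ih
      refine ⟨m * u + j * k * k, ?_⟩
      push_cast
      linear_combination u * hm + (j : ℤ) * (u - 1 + p * k) * hk
  have hsum : (p : ℤ) ^ 2 ∣ ∑ j ∈ Finset.range p, (u ^ j - 1 - j * (u - 1)) := Finset.dvd_sum fun j _ => hj j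
  rw [Finset.sum_sub_distrib, Finset.sum_sub_distrib, Finset.sum_const, Finset.card_range, nsmul_one,
    ← Finset.sum_mul] at hsum
  obtain ⟨q, hq⟩ := hodd
  have hgauss : ∑ j ∈ Finset.range p, (j : ℤ) = p * q := by
    rw [← Nat.cast_sum]
    have h2 := Finset.sum_range_id_mul_two p
    have : (∑ j ∈ Finset.range p, j) = p * q := by
      rw [show p - 1 = q * 2 by omega, ← mul_assoc] at h2
      exact Nat.eq_of_mul_eq_mul_right two_pos h2
    exact_mod_cast this
  rw [hgauss, hk] at hsum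
  obtain ⟨t, ht⟩ := hsum
  exact ⟨t + q * k, by linear_combination ht⟩

omit hp in
theorem eq_one_or_eq_of_mem_zpowers {z w : G} (hz : z * z = 1) (hw : w ∈ Subgroup.zpowers z) : w = 1 ∨ w = z := by
  obtain ⟨k, rfl⟩ := hw
  rcases Int.even_or_odd k with ⟨j, rfl⟩ | ⟨j, rfl⟩
  · left
    show z ^ (j + j) = 1
    rw [← two_mul, zpow_mul, zpow_two, hz, one_zpow]
  · right
    show z ^ (2 * j + 1) = z
    rw [zpow_add, zpow_mul, zpow_two, hz, one_zpow, one_mul, zpow_one]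

theorem hall_decomposition_odd (hp2 : p ≠ 2) (hG : IsPGroup p G)
    (hsymp : ∀ A : Subgroup G, A.Characteristic → IsMulCommutative A → IsCyclic A)
    (hΦ : IsCyclic ↥(frattini G)) {z : G} (hzΦ : z ∈ frattini G) (hz : z ∈ Subgroup.center G) (hz1 : z ≠ 1)
    (hzp : z ^ p = 1) :
    ∃ E R : Subgroup G, (∀ e ∈ E, ∀ r ∈ R, e * r = r * e) ∧ E ⊔ R = ⊤ ∧
      (E = ⊥ ∨ Cfsg.IsExtraspecial p ↥E) ∧ IsHallFactor p R := by
  have hodd : Odd p := hp.out.odd_of_ne_two hp2
  have hΩ : ∀ e ∈ frattini G, e ^ p = 1 → e ∈ Subgroup.zpowers z := fun e he hep =>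
    mem_zpowers_of_isCyclic hΦ hzΦ he (by rw [orderOf_eq_prime hzp hz1]; exact hep)
  have hcomm : ∀ g x : G, x ^ p = 1 → ⁅g, x⁆ ∈ Subgroup.zpowers z := by
    intro g x hx
    have he : ⁅g, x⁆ ∈ frattini G := CfsgLib.PGroup.commutatorElement_mem_frattini hG g x
    refine hΩ _ he ?_
    set e := ⁅g, x⁆ with hedef
    rcases eq_or_ne e 1 with h1 | h1
    · rw [h1, one_pow]
    obtain ⟨u, hu⟩ := mem_zpowers_of_isCyclic hΦ he ((inferInstance : (frattini G).Normal).conj_mem e he x)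
      (by rw [conj_pow, pow_orderOf_eq_one]; group)
    have hu : x * e * x⁻¹ = e ^ u := hu.symm
    obtain ⟨t, ht⟩ := geom_sum_eq_of_odd hodd (conj_exponent_modEq_one hG h1 hu)
    have h2 : (e ^ (1 : ℤ) * x) ^ p = 1 := by
      rw [zpow_one, show e * x = g * x * g⁻¹ by rw [hedef, commutatorElement_def]; group, conj_pow, hx]
      group
    rw [conj_mul_pow hu, hx, mul_one, one_mul, ht, ← orderOf_dvd_iff_zpow_eq_one] at h2
    obtain ⟨k, hk⟩ := IsPGroup.iff_orderOf.mp hG e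
    rw [← orderOf_dvd_iff_pow_eq_one, hk]
    rw [hk, Nat.cast_pow] at h2
    have hcop : IsCoprime ((p : ℤ) ^ k) (1 + (p : ℤ) * t) :=
      IsCoprime.pow_left (IsCoprime.symm ⟨1, -t, by ring⟩)
    exact_mod_cast hcop.dvd_of_dvd_mul_right h2
  let E : Subgroup G :=
    { carrier := {x | x ^ p = 1}
      one_mem' := one_pow p
      mul_mem' := fun {x y} hx hy => by
        have hcm := hcomm x y hy
        have hc : ∀ w : G, Commute ⁅x, y⁆ w := fun w =>
          (Subgroup.mem_center_iff.mp (Subgroup.zpowers_le.mpr hz hcm) w).symm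
        obtain ⟨i, hi⟩ := hcm
        show (x * y) ^ p = 1
        rw [CfsgLib.PGroup.mul_pow_of_odd (hc x) (hc y) hodd (by
          rw [← hi, ← zpow_natCast, ← zpow_mul, mul_comm, zpow_mul, zpow_natCast, hzp, one_zpow]), hx, hy, one_mul]
      inv_mem' := fun {x} hx => by show x⁻¹ ^ p = 1; rw [inv_pow, hx, inv_one] }
  haveI hEchar : E.Characteristic := Subgroup.characteristic_iff_map_le.mpr fun φ => by
    rintro _ ⟨x, hx, rfl⟩
    show φ x ^ p = 1
    rw [← map_pow, show x ^ p = 1 from hx, map_one]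
  have hZE : ∀ x ∈ E, x ∈ Subgroup.centralizer (E : Set G) → x ∈ Subgroup.zpowers z := fun x hx hxc =>
    mem_zpowers_of_isCyclic (isCyclic_inf_centralizer hsymp E)
      (Subgroup.mem_inf.mpr ⟨(hzp : z ∈ E), Subgroup.center_le_centralizer _ hz⟩) (Subgroup.mem_inf.mpr ⟨hx, hxc⟩)
      (by rw [orderOf_eq_prime hzp hz1]; exact hx)
  refine exists_decomposition hG hz hz1 hzp (E := E) hzp (fun g x hx => hcomm g x hx)
    (fun x hx => by rw [show x ^ p = 1 from hx]; exact one_mem _) hZE (Or.inl ?_)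
  refine CfsgLib.PGroup.isCyclic_of_unique_subgroup hp2 (hG.to_subgroup _) fun x y hx hy => ?_
  have hmem : ∀ w : ↥(Subgroup.centralizer (E : Set G)), orderOf w = p → (w : G) ∈ Subgroup.zpowers z :=
    fun w hw => hZE w (show (w : G) ^ p = 1 by rw [← Subgroup.orderOf_coe] at hw; rw [← hw]; exact pow_orderOf_eq_one _) w.2
  rw [← Subgroup.orderOf_coe] at hx
  obtain ⟨k, hk⟩ := mem_zpowers_of_isCyclic (N := Subgroup.zpowers z) inferInstance (hmem x (by rw [← Subgroup.orderOf_coe]; exact hx))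
    (hmem y hy) (by rw [hx, ← hy, ← Subgroup.orderOf_coe]; exact pow_orderOf_eq_one _)
  exact ⟨k, Subtype.ext (by simpa using hk)⟩

section Two

variable (hG : IsPGroup 2 G) (hsymp : ∀ A : Subgroup G, A.Characteristic → IsMulCommutative A → IsCyclic A)
include hG hsymp

/-- The case of Frattini subgroup of order two. -/
theorem hall_decomposition_two_small {z : G} (hz : z ∈ Subgroup.center G) (hz1 : z ≠ 1) (hzp : z ^ 2 = 1)
    (hzΦ : z ∈ frattini G) (hΦle : frattini G ≤ Subgroup.zpowers z) :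
    ∃ E R : Subgroup G, (∀ e ∈ E, ∀ r ∈ R, e * r = r * e) ∧ E ⊔ R = ⊤ ∧
      (E = ⊥ ∨ Cfsg.IsExtraspecial 2 ↥E) ∧ IsHallFactor 2 R := by
  have hcenter : IsCyclic ↥(Subgroup.center G) := hsymp _ inferInstance inferInstance
  have hcomm : ∀ g x : G, ⁅g, x⁆ ∈ Subgroup.zpowers z := fun g x =>
    hΦle (CfsgLib.PGroup.commutatorElement_mem_frattini hG g x)
  have hsq : ∀ x : G, x ^ 2 ∈ Subgroup.zpowers z := fun x => hΦle (CfsgLib.PGroup.pow_prime_mem_frattini hG x)
  by_cases hr : ∀ r ∈ Subgroup.center G, r ∈ Subgroup.zpowers z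
  · refine exists_decomposition hG hz hz1 hzp (E := ⊤) trivial (fun g x _ => hcomm g x) (fun x _ => hsq x)
      (fun x _ hx => hr x (Subgroup.mem_center_iff.mpr fun w => Subgroup.mem_centralizer_iff.mp hx w trivial)) (Or.inl ?_)
    rw [Subgroup.coe_top, Subgroup.centralizer_univ]
    exact hcenter
  push Not at hr
  obtain ⟨r, hrc, hrz⟩ := hr
  obtain ⟨M, hM, hrM⟩ : ∃ M : Subgroup G, IsCoatom M ∧ r ∉ M := by
    by_contra! h
    exact hrz (hΦle (CfsgLib.PGroup.mem_frattini_iff.mpr h))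
  haveI := CfsgLib.PGroup.normal_of_coatom hG hM
  have htop : M ⊔ Subgroup.zpowers r = ⊤ := hM.2 _ (lt_of_le_of_ne le_sup_left fun he =>
    hrM (he ▸ le_sup_right (a := M) (Subgroup.mem_zpowers r)))
  have hzM : z ∈ M := frattini_le_coatom hM hzΦ
  have hr4 : orderOf r = 4 := by
    have h4 : r ^ 4 = 1 := by
      obtain ⟨i, hi⟩ := hsq r
      rw [show (4 : ℕ) = 2 * 2 from rfl, pow_mul, ← hi, ← zpow_natCast, ← zpow_mul, mul_comm, zpow_mul,
        zpow_natCast, hzp, one_zpow]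
    refine orderOf_eq_prime_pow (p := 2) (n := 1) ?_ h4
    intro h2
    exact hrz (mem_zpowers_of_isCyclic hcenter hz hrc (by rw [orderOf_eq_prime hzp hz1]; exact h2))
  have hcenr : ∀ x ∈ Subgroup.center G, x ∈ Subgroup.zpowers r := fun x hx =>
    mem_zpowers_of_isCyclic hcenter hrc hx (by
      obtain ⟨i, hi⟩ := hsq x
      rw [hr4, show (4 : ℕ) = 2 * 2 from rfl, pow_mul, ← hi, ← zpow_natCast, ← zpow_mul, mul_comm, zpow_mul,
        zpow_natCast, hzp, one_zpow])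
  have hZM : ∀ x ∈ M, x ∈ Subgroup.centralizer (M : Set G) → x ∈ Subgroup.zpowers z := by
    intro x hxM hxc
    have hxC : x ∈ Subgroup.center G := Subgroup.mem_center_iff.mpr fun g => by
      have hle : M ⊔ Subgroup.zpowers r ≤ Subgroup.centralizer ({x} : Set G) := sup_le
        (fun m hm => Subgroup.mem_centralizer_singleton_iff.mpr (Subgroup.mem_centralizer_iff.mp hxc m hm))
        (Subgroup.zpowers_le.mpr (Subgroup.mem_centralizer_singleton_iff.mpr
          (Subgroup.mem_center_iff.mp hrc x).symm))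
      exact Subgroup.mem_centralizer_singleton_iff.mp (hle (htop ▸ Subgroup.mem_top g))
    obtain ⟨i, rfl⟩ := hcenr x hxC
    rcases Int.even_or_odd i with ⟨j, rfl⟩ | ⟨j, rfl⟩
    · show r ^ (j + j) ∈ _
      rw [← two_mul, zpow_mul, zpow_ofNat]
      exact (Subgroup.zpowers z).zpow_mem (hsq r) j
    · exfalso
      have h1 : (r ^ 2) ^ j ∈ M := M.zpow_mem (Subgroup.zpowers_le.mpr hzM (hsq r)) j
      have h2 : r ^ (2 * j + 1) ∈ M := hxM
      rw [zpow_add, zpow_mul, zpow_one, zpow_ofNat] at h2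
      exact hrM ((M.mul_mem_cancel_left h1).mp h2)
  refine exists_decomposition hG hz hz1 hzp hzM (fun g x _ => hcomm g x) (fun x _ => hsq x) hZM (Or.inl ?_)
  refine Subgroup.isCyclic_of_le (fun x hx => ?_ : _ ≤ Subgroup.zpowers r)
  have hx' : x ∈ M ⊔ Subgroup.zpowers r := htop ▸ Subgroup.mem_top x
  obtain ⟨m, hm, w, hw, rfl⟩ := Subgroup.mem_sup_of_normal_left.mp hx'
  have hwC : w ∈ Subgroup.centralizer (M : Set G) :=
    Subgroup.center_le_centralizer _ (Subgroup.zpowers_le.mpr hrc hw)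
  have hmC : m ∈ Subgroup.centralizer (M : Set G) := (Subgroup.mul_mem_cancel_right _ hwC).mp hx
  exact mul_mem (hcenr m (Subgroup.zpowers_le.mpr hz (hZM m hm hmC))) hw

set_option maxHeartbeats 1000000 in
/-- The case of Frattini subgroup of order at least four. -/
theorem hall_decomposition_two_big (hΦ : IsCyclic ↥(frattini G)) {z f : G} (hz : z ∈ Subgroup.center G)
    (hz1 : z ≠ 1) (hzp : z ^ 2 = 1) (hzΦ : z ∈ frattini G) (hfΦ : f ∈ frattini G) (hf : orderOf f = 4) :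
    ∃ E R : Subgroup G, (∀ e ∈ E, ∀ r ∈ R, e * r = r * e) ∧ E ⊔ R = ⊤ ∧
      (E = ⊥ ∨ Cfsg.IsExtraspecial 2 ↥E) ∧ IsHallFactor 2 R := by
  haveI := hΦ
  have hzz : z * z = 1 := by rw [← sq, hzp]
  have hΩ : ∀ e ∈ frattini G, e ^ 2 = 1 → e ∈ Subgroup.zpowers z := fun e he hep =>
    mem_zpowers_of_isCyclic hΦ hzΦ he (by rw [orderOf_eq_prime hzp hz1]; exact hep)
  have hzc : Subgroup.zpowers z ≤ Subgroup.center G := Subgroup.zpowers_le.mpr hz
  have hΦcomm : ∀ a ∈ frattini G, ∀ b ∈ frattini G, a * b = b * a := fun a ha b hb =>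
    congrArg Subtype.val (hΦ.commGroup.mul_comm ⟨a, ha⟩ ⟨b, hb⟩)
  set C := Subgroup.centralizer (frattini G : Set G) with hC
  have hCΦ : frattini G ≤ C := fun a ha => Subgroup.mem_centralizer_iff.mpr fun b hb => hΦcomm b hb a ha
  have hCcomm : ∀ x ∈ C, ∀ e ∈ frattini G, Commute e x := fun x hx e he => Subgroup.mem_centralizer_iff.mp hx e he
  have hcommΦ : ∀ a b : G, ⁅a, b⁆ ∈ frattini G := fun a b => CfsgLib.PGroup.commutatorElement_mem_frattini hG a b
  have hzsq : ∀ w ∈ Subgroup.zpowers z, w * w = 1 := fun w hw => by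
    rcases eq_one_or_eq_of_mem_zpowers hzz hw with rfl | rfl
    exacts [one_mul 1, hzz]
  -- commutators with elements of `C` having square in `⟨z⟩`
  have hE1comm : ∀ g : G, ∀ x ∈ C, x ^ 2 ∈ Subgroup.zpowers z → ⁅g, x⁆ ∈ Subgroup.zpowers z := by
    intro g x hx hx2
    refine hΩ _ (hcommΦ g x) ?_
    have hc : Commute ⁅g, x⁆ x := hCcomm x hx _ (hcommΦ g x)
    have h1 : (⁅g, x⁆ * x) ^ 2 = x ^ 2 := by
      rw [show ⁅g, x⁆ * x = g * x * g⁻¹ by simp only [commutatorElement_def]; group, conj_pow,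
        Subgroup.mem_center_iff.mp (hzc hx2) g, mul_inv_cancel_right]
    rw [hc.mul_pow] at h1
    exact mul_eq_right.mp h1
  let E1 : Subgroup G :=
    { carrier := {x | x ∈ C ∧ x ^ 2 ∈ Subgroup.zpowers z}
      one_mem' := ⟨one_mem _, by rw [one_pow]; exact one_mem _⟩
      mul_mem' := fun {x y} hx hy => ⟨C.mul_mem hx.1 hy.1, by
        have he := hE1comm y x hx.1 hx.2
        have h1 : (x * y) ^ 2 = x * (⁅y, x⁆ * x) * y * y := by
          rw [sq]; simp only [commutatorElement_def]; group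
        rw [h1, ← mul_assoc x ⁅y, x⁆ x, Subgroup.mem_center_iff.mp (hzc he) x, mul_assoc ⁅y, x⁆ x x,
          mul_assoc _ y y, mul_assoc ⁅y, x⁆ (x * x)]
        exact mul_mem he (mul_mem (by rw [← sq]; exact hx.2) (by rw [← sq]; exact hy.2))⟩
      inv_mem' := fun {x} hx => ⟨C.inv_mem hx.1, by rw [inv_pow]; exact inv_mem hx.2⟩ }
  have hf4 : f ^ 4 = 1 := hf ▸ pow_orderOf_eq_one f
  have hf2 : f ^ 2 = z := by
    have h1 : f ^ 2 ∈ Subgroup.zpowers z := hΩ _ ((frattini G).pow_mem hfΦ 2) (by rw [← pow_mul]; exact hf4)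
    exact (eq_one_or_eq_of_mem_zpowers hzz h1).resolve_left
      (pow_ne_one_of_lt_orderOf two_ne_zero (by omega))
  have hfz : f ∉ Subgroup.zpowers z := fun h => by
    have := hzsq f h
    rw [← sq, hf2] at this
    exact hz1 this
  have hfE1 : f ∈ E1 := ⟨hCΦ hfΦ, by rw [hf2]; exact Subgroup.mem_zpowers z⟩
  have hzE1 : Subgroup.zpowers z ≤ E1 := Subgroup.zpowers_le.mpr
    ⟨Subgroup.center_le_centralizer _ hz, by rw [hzp]; exact one_mem _⟩
  -- an automorphism fixes `z`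
  have hφΦ : ∀ φ : G ≃* G, ∀ a ∈ frattini G, φ a ∈ frattini G := fun φ a ha =>
    Subgroup.characteristic_iff_map_le.mp inferInstance φ ⟨a, ha, rfl⟩
  have hφz : ∀ φ : G ≃* G, φ z = z := fun φ => by
    have h1 : φ z ∈ Subgroup.zpowers z := hΩ _ (hφΦ φ z hzΦ) (by rw [← map_pow, hzp, map_one])
    exact (eq_one_or_eq_of_mem_zpowers hzz h1).resolve_left fun h => hz1 (by simpa using h)
  have hφzp : ∀ φ : G ≃* G, ∀ w ∈ Subgroup.zpowers z, φ w ∈ Subgroup.zpowers z := by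
    rintro φ _ ⟨i, rfl⟩
    show φ (z ^ i) ∈ _
    rw [map_zpow, hφz]
    exact zpow_mem (Subgroup.mem_zpowers z) i
  haveI : E1.Characteristic := Subgroup.characteristic_iff_map_le.mpr fun φ => by
    rintro _ ⟨x, hx, rfl⟩
    refine ⟨Subgroup.mem_centralizer_iff.mpr fun a ha => ?_, ?_⟩
    · have := congrArg φ (Subgroup.mem_centralizer_iff.mp hx.1 _ (hφΦ φ.symm a ha))
      rwa [map_mul, map_mul, φ.apply_symm_apply] at this
    · show φ x ^ 2 ∈ _
      rw [← map_pow]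
      exact hφzp φ _ hx.2
  have hZE1 : ∀ x ∈ E1, (∀ w ∈ E1, w * x = x * w) → x ∈ Subgroup.zpowers f := by
    intro x hx hxc
    refine mem_zpowers_of_isCyclic (isCyclic_inf_centralizer hsymp E1)
      (Subgroup.mem_inf.mpr ⟨hfE1, Subgroup.mem_centralizer_iff.mpr fun w hw => (hCcomm w hw.1 f hfΦ).symm⟩)
      (Subgroup.mem_inf.mpr ⟨hx, Subgroup.mem_centralizer_iff.mpr hxc⟩) ?_
    rw [hf, show (4 : ℕ) = 2 * 2 from rfl, pow_mul, sq (x ^ 2)]
    exact hzsq _ hx.2
  -- the hyperplane `E`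
  obtain ⟨M, hM, hfM⟩ : ∃ M : Subgroup ↥E1, IsCoatom M ∧ (⟨f, hfE1⟩ : ↥E1) ∉ M := by
    by_contra! h
    have hn : ((Subgroup.zpowers z).subgroupOf E1).Normal := ⟨fun w hw g => by
      rw [Subgroup.mem_subgroupOf] at hw ⊢
      show (g : G) * w * (g : G)⁻¹ ∈ _
      rw [Subgroup.mem_center_iff.mp (hzc hw) g, mul_inv_cancel_right]
      exact hw⟩
    exact hfz (CfsgLib.PGroup.frattini_le_of_elementary (P := ↥E1) (p := 2)
      (N := (Subgroup.zpowers z).subgroupOf E1)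
      (fun a b => hE1comm a b b.2.1 b.2.2) (fun a => a.2.2)
      (CfsgLib.PGroup.mem_frattini_iff.mpr h))
  set E := M.map E1.subtype with hEdef
  have hEle : E ≤ E1 := Subgroup.map_subtype_le M
  haveI := CfsgLib.PGroup.normal_of_coatom (hG.to_subgroup E1) hM
  have hzE : z ∈ E := by
    refine ⟨⟨z, hzE1 (Subgroup.mem_zpowers z)⟩, ?_, rfl⟩
    have h1 : (⟨f, hfE1⟩ : ↥E1) ^ 2 ∈ M := by
      simpa [CfsgLib.PGroup.index_of_coatom (hG.to_subgroup E1) hM] using M.pow_index_mem (⟨f, hfE1⟩ : ↥E1)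
    rwa [show (⟨f, hfE1⟩ : ↥E1) ^ 2 = ⟨z, hzE1 (Subgroup.mem_zpowers z)⟩ from Subtype.ext hf2] at h1
  have hfE : f ∉ E := fun ⟨w, hw, hwf⟩ => hfM (by rwa [show w = ⟨f, hfE1⟩ from Subtype.ext hwf] at hw)
  have hE1gen : ∀ x ∈ E1, x ∈ E ⊔ Subgroup.zpowers f := by
    intro x hx
    have htop : M ⊔ Subgroup.zpowers (⟨f, hfE1⟩ : ↥E1) = ⊤ := hM.2 _ (lt_of_le_of_ne le_sup_left fun he =>
      hfM (he ▸ le_sup_right (a := M) (Subgroup.mem_zpowers _)))
    have h1 : x ∈ (M ⊔ Subgroup.zpowers (⟨f, hfE1⟩ : ↥E1)).map E1.subtype :=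
      ⟨⟨x, hx⟩, htop ▸ Subgroup.mem_top _, rfl⟩
    rwa [Subgroup.map_sup, MonoidHom.map_zpowers] at h1
  have hEcomm : ∀ g : G, ∀ x ∈ E, ⁅g, x⁆ ∈ Subgroup.zpowers z := fun g x hx =>
    hE1comm g x (hEle hx).1 (hEle hx).2
  haveI hEn : E.Normal := ⟨fun x hx g => by
    rw [show g * x * g⁻¹ = ⁅g, x⁆ * x by simp only [commutatorElement_def]; group]
    exact mul_mem (Subgroup.zpowers_le.mpr hzE (hEcomm g x hx)) hx⟩
  have hfull : ∀ x : G, x ∈ Subgroup.centralizer (E : Set G) → Commute f x → ∀ w ∈ E1, w * x = x * w := by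
    intro x hx hfx w hw
    have hle : E ⊔ Subgroup.zpowers f ≤ Subgroup.centralizer ({x} : Set G) := sup_le
      (fun e he => Subgroup.mem_centralizer_singleton_iff.mpr (Subgroup.mem_centralizer_iff.mp hx e he))
      (Subgroup.zpowers_le.mpr (Subgroup.mem_centralizer_singleton_iff.mpr hfx.eq))
    exact Subgroup.mem_centralizer_singleton_iff.mp (hle (hE1gen w hw))
  have hZE : ∀ x ∈ E, x ∈ Subgroup.centralizer (E : Set G) → x ∈ Subgroup.zpowers z := by
    intro x hx hxc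
    obtain ⟨i, rfl⟩ := hZE1 x (hEle hx) (hfull x hxc (hCcomm x (hEle hx).1 f hfΦ))
    show f ^ i ∈ _
    rcases Int.even_or_odd i with ⟨j, rfl⟩ | ⟨j, rfl⟩
    · rw [← two_mul, zpow_mul, zpow_two, ← sq, hf2]
      exact zpow_mem (Subgroup.mem_zpowers z) j
    · exfalso
      have h1 : (f ^ 2) ^ j ∈ E := by rw [hf2]; exact E.zpow_mem hzE j
      have h2 : f ^ (2 * j + 1) ∈ E := hx
      rw [zpow_add, zpow_mul, zpow_one, zpow_ofNat] at h2
      exact hfE ((E.mul_mem_cancel_left h1).mp h2)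
  refine exists_decomposition hG hz hz1 hzp hzE hEcomm (fun x hx => (hEle hx).2) hZE ?_
  have hsupTop := sup_centralizer_eq_top hG hz hz1 hzp hzE hEcomm hZE
  set R := Subgroup.centralizer (E : Set G) with hRdef
  have hΦR : frattini G ≤ R := fun a ha => Subgroup.mem_centralizer_iff.mpr fun e he =>
    (hCcomm e (hEle he).1 a ha).symm
  have hfR : f ∈ R := hΦR hfΦ
  have key1 : ∀ x ∈ R, x ∈ C → x ^ 2 ∈ Subgroup.zpowers z → x ∈ Subgroup.zpowers f :=
    fun x hx hxC hx2 => hZE1 x ⟨hxC, hx2⟩ (hfull x hx (hCcomm x hxC f hfΦ))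
  have hR0cyc : IsCyclic ↥(R ⊓ C) := by
    have hatmost : CfsgLib.TwoGroup.AtMostOneInvolution ↥(R ⊓ C) := by
      suffices h : ∀ x : ↥(R ⊓ C), orderOf x = 2 → (x : G) = z from fun x y hx hy =>
        Subtype.ext ((h x hx).trans (h y hy).symm)
      intro x hx
      rw [← Subgroup.orderOf_coe] at hx
      have hx2 : (x : G) ^ 2 = 1 := hx ▸ pow_orderOf_eq_one _
      obtain ⟨i, hi⟩ := key1 x (Subgroup.mem_inf.mp x.2).1 (Subgroup.mem_inf.mp x.2).2 (by rw [hx2]; exact one_mem _)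
      have h1 : (x : G) ∈ Subgroup.zpowers z := hΩ _ (hi ▸ (frattini G).zpow_mem hfΦ i) hx2
      exact (eq_one_or_eq_of_mem_zpowers hzz h1).resolve_left fun h => by simp [h] at hx
    rcases CfsgLib.TwoGroup.cyclic_or_quaternion (hG.to_subgroup _) hatmost with h | ⟨k, hk, ⟨e⟩⟩
    · exact h
    exfalso
    have hin : ∀ i : ZMod (2 * 2 ^ k), ((e.symm (QuaternionGroup.xa i) : ↥(R ⊓ C)) : G) ∈ Subgroup.zpowers f := by
      intro i
      set w := e.symm (QuaternionGroup.xa i) with hw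
      have h4 : orderOf w = 4 := by rw [hw, MulEquiv.orderOf_eq, QuaternionGroup.orderOf_xa]
      refine key1 _ (Subgroup.mem_inf.mp w.2).1 (Subgroup.mem_inf.mp w.2).2 ?_
      have h2 : orderOf (w ^ 2) = 2 := by rw [orderOf_pow' w two_ne_zero, h4]; rfl
      have hzmem : z ∈ R ⊓ C := Subgroup.mem_inf.mpr ⟨hΦR hzΦ, hCΦ hzΦ⟩
      have h3 := hatmost (w ^ 2) ⟨z, hzmem⟩ h2 (by rw [Subgroup.orderOf_mk, orderOf_eq_prime hzp hz1])
      have h4' := congrArg Subtype.val h3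
      rw [Subgroup.coe_pow] at h4'
      rw [h4']
      exact Subgroup.mem_zpowers z
    obtain ⟨i, hi⟩ := hin 0
    obtain ⟨j, hj⟩ := hin 1
    have hc : e.symm (QuaternionGroup.xa 0) * e.symm (QuaternionGroup.xa 1) =
        e.symm (QuaternionGroup.xa 1) * e.symm (QuaternionGroup.xa 0) := by
      refine Subtype.ext ?_
      rw [Subgroup.coe_mul, Subgroup.coe_mul, ← hi, ← hj]
      exact zpow_mul_comm f i j
    rw [← map_mul, ← map_mul, e.symm.injective.eq_iff] at hc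
    simp only [QuaternionGroup.xa_mul_xa, QuaternionGroup.a.injEq] at hc
    have h2 : ((2 : ℕ) : ZMod (2 * 2 ^ k)) = 0 := by push_cast; linear_combination hc
    rw [ZMod.natCast_eq_zero_iff] at h2  
    have := Nat.le_of_dvd two_pos h2
    have : 2 ≤ 2 ^ k := le_self_pow₀ (by norm_num) (by omega)
    omega
  haveI := hR0cyc
  obtain ⟨⟨r, hr⟩, hrgen⟩ := IsCyclic.exists_generator (α := ↥(R ⊓ C))
  obtain ⟨hrR, hrC⟩ := Subgroup.mem_inf.mp hr
  have hR0eq : R ⊓ C = Subgroup.zpowers r := by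
    refine le_antisymm (fun x hx => ?_) (Subgroup.zpowers_le.mpr hr)
    obtain ⟨i, hi⟩ := hrgen ⟨x, hx⟩
    exact ⟨i, by simpa using congrArg Subtype.val hi⟩
  have hgen : ∀ x ∈ R, x ∈ C → x ∈ Subgroup.zpowers r := fun x hx hxC => hR0eq ▸ Subgroup.mem_inf.mpr ⟨hx, hxC⟩
  have hΦr : ∀ a ∈ frattini G, a ∈ Subgroup.zpowers r := fun a ha => hgen a (hΦR ha) (hCΦ ha)
  obtain ⟨m, hm⟩ := IsPGroup.iff_orderOf.mp hG r
  have hker : ∀ x ∈ R, Commute x r → x ∈ C := fun x _ hxr => Subgroup.mem_centralizer_iff.mpr fun a ha => by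
    obtain ⟨i, rfl⟩ := hΦr a ha
    exact (hxr.zpow_right i).symm.eq
  -- an element of `R` fixing `f` but not in `C` acts as `r ↦ z r`
  have hflip : ∀ x ∈ R, x ∉ C → Commute x f → x * r * x⁻¹ = z * r := by
    intro x hx hxC hxf
    haveI : C.Normal := Subgroup.normal_centralizer
    haveI : R.Normal := Subgroup.normal_centralizer
    have hwmem : ⁅x, r⁆ ∈ Subgroup.zpowers r := by
      rw [← hR0eq, show ⁅x, r⁆ = x * r * x⁻¹ * r⁻¹ from commutatorElement_def x r]
      exact mul_mem (Subgroup.mem_inf.mpr ⟨(inferInstance : R.Normal).conj_mem r hrR x,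
        (inferInstance : C.Normal).conj_mem r hrC x⟩) (inv_mem hr)
    set w := ⁅x, r⁆ with hwdef
    have hxr : x * r * x⁻¹ = w * r := by rw [hwdef, commutatorElement_def]; group
    have hx2 : Commute (x * x) r := (hCcomm r hrC _ (by rw [← sq]; exact CfsgLib.PGroup.pow_prime_mem_frattini hG x))
    obtain ⟨i, hi⟩ := hwmem
    have hwr : Commute w r := hi ▸ (Commute.refl r).zpow_left i
    have hinv : x * w * x⁻¹ = w⁻¹ := by
      have h1 : x * (w * r) * x⁻¹ = r := by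
        rw [← hxr, show x * (x * r * x⁻¹) * x⁻¹ = (x * x) * r * (x * x)⁻¹ by group, hx2.eq, mul_inv_cancel_right]
      rw [show x * (w * r) * x⁻¹ = (x * w * x⁻¹) * (x * r * x⁻¹) by group, hxr, ← mul_assoc, mul_eq_right] at h1
      exact eq_inv_of_mul_eq_one_left h1
    have hw2 : w ^ 2 = 1 := by
      by_contra hne
      obtain ⟨n, hn⟩ := IsPGroup.iff_orderOf.mp hG w
      have hn2 : 2 ≤ n := by
        by_contra hlt
        refine hne (orderOf_dvd_iff_pow_eq_one.mp ?_)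
        rw [hn]
        exact (pow_dvd_pow 2 (show n ≤ 1 by omega)).trans (by norm_num)
      obtain ⟨k, hk⟩ := mem_zpowers_of_isCyclic (N := Subgroup.zpowers r) inferInstance
        ((show r ^ i = w from hi) ▸ zpow_mem (Subgroup.mem_zpowers r) i) (hΦr f hfΦ) (orderOf_dvd_iff_pow_eq_one.mp (by
          rw [hn, hf]; exact pow_dvd_pow 2 hn2))
      have h1 : x * f * x⁻¹ = f⁻¹ := by
        rw [← hk]
        show x * w ^ k * x⁻¹ = (w ^ k)⁻¹
        rw [← conj_zpow, hinv, inv_zpow]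
      rw [hxf.eq, mul_inv_cancel_right, eq_inv_iff_mul_eq_one, ← sq, hf2] at h1
      exact hz1 h1
    have hwz : w ∈ Subgroup.zpowers z := hΩ _ (hcommΦ x r) hw2
    rw [hxr, (eq_one_or_eq_of_mem_zpowers hzz hwz).resolve_left fun h => hxC (hker x hx ?_)]
    rw [h, one_mul] at hxr
    exact mul_inv_eq_iff_eq_mul.mp hxr
  have hconjz : ∀ x : G, x * r * x⁻¹ = z * r → ∀ i : ℤ, x * r ^ i * x⁻¹ = z ^ i * r ^ i := fun x hx i => by
    rw [← conj_zpow, hx, Commute.mul_zpow (show Commute z r from (Subgroup.mem_center_iff.mp hz r).symm)]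
  have key2 : ∀ x ∈ R, Commute x f → x ∈ C := by
    intro x hx hxf
    by_contra hxC
    have hxr := hflip x hx hxC hxf
    obtain ⟨s, hs⟩ := hΦr _ (CfsgLib.PGroup.pow_prime_mem_frattini hG x)
    have hs : x * x = r ^ s := by rw [← sq]; exact hs.symm
    have hzs : z ^ s = 1 := by
      have h1 := hconjz x hxr s
      rw [← hs, show x * (x * x) * x⁻¹ = x * x by group, right_eq_mul] at h1
      exact h1
    obtain ⟨t, ht⟩ : Even s := by
      rcases Int.even_or_odd s with h | ⟨j, rfl⟩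
      · exact h
      · rw [zpow_add, zpow_mul, zpow_two, hzz, one_zpow, one_mul, zpow_one] at hzs
        exact absurd hzs hz1
    obtain ⟨l, hl⟩ := hΦr z hzΦ
    have hl : r ^ l = z := hl
    obtain ⟨k0, hk0⟩ : Even l := by
      rcases Int.even_or_odd l with h | ⟨j, rfl⟩
      · exact h
      · exfalso
        have h1 := hconjz x hxr (2 * j + 1)
        rw [hl, Subgroup.mem_center_iff.mp hz x, mul_inv_cancel_right, zpow_add, zpow_mul, zpow_two, hzz, one_zpow,
          one_mul, zpow_one, eq_comm, mul_eq_left] at h1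
        exact hz1 h1
    -- `r ^ k0` has square `z`, so it lies in `⟨f⟩`
    have hk : r ^ k0 ∈ Subgroup.zpowers f := key1 _ (R.zpow_mem hrR _) (C.zpow_mem hrC _) (by
      rw [← zpow_natCast, ← zpow_mul, show k0 * ((2 : ℕ) : ℤ) = l by rw [hk0]; push_cast; ring, hl]
      exact Subgroup.mem_zpowers z)
    obtain ⟨k1, hk1⟩ : Even k0 := by
      rcases Int.even_or_odd k0 with h | ⟨j, rfl⟩
      · exact h
      · exfalso
        have h1 := hconjz x hxr (2 * j + 1)
        obtain ⟨q, hq⟩ := hk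
        rw [← hq, ← (hxf.zpow_right q).eq.symm, mul_inv_cancel_right, zpow_add, zpow_mul, zpow_two, hzz, one_zpow,
          one_mul, zpow_one, right_eq_mul] at h1
        exact hz1 h1
    -- an involution acting in the same way
    obtain ⟨y, hyR, hyr, hy2, hyf⟩ : ∃ y ∈ R, y * r * y⁻¹ = z * r ∧ y * y = 1 ∧ Commute y f := by
      have hsqr : ∀ j : ℤ, x * r ^ j * (x * r ^ j) = z ^ j * r ^ (2 * j + s) := fun j => by
        calc x * r ^ j * (x * r ^ j) = (x * r ^ j * x⁻¹) * (x * x) * r ^ j := by group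
          _ = z ^ j * r ^ (2 * j + s) := by
            rw [hconjz x hxr, hs, mul_assoc, mul_assoc, ← zpow_add, ← zpow_add, show j + (s + j) = 2 * j + s by ring]
      have hj : ∃ j : ℤ, z ^ j * r ^ (2 * j + s) = 1 := by
        rcases Int.even_or_odd t with ⟨t', ht'⟩ | ⟨t', ht'⟩
        · refine ⟨-t, ?_⟩
          rw [show 2 * -t + s = 0 by omega, zpow_zero, mul_one, show -t = 2 * -t' by omega, zpow_mul, zpow_two,
            hzz, one_zpow]
        · refine ⟨-t + k0, ?_⟩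
          rw [show 2 * (-t + k0) + s = l by omega, hl, show -t + k0 = 2 * (k1 - t' - 1) + 1 by omega, zpow_add,
            zpow_mul, zpow_two, hzz, one_zpow, one_mul, zpow_one, hzz]
      obtain ⟨j, hj⟩ := hj
      refine ⟨x * r ^ j, R.mul_mem hx (R.zpow_mem hrR j), ?_, (hsqr j).trans hj,
        hxf.mul_left ((hCcomm r hrC f hfΦ).symm.zpow_left j)⟩
      rw [show x * r ^ j * r * (x * r ^ j)⁻¹ = x * r * x⁻¹ by group]
      exact hxr
    have hyC : y ∉ C := fun h => by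
      obtain ⟨i, rfl⟩ := hgen y hyR h
      rw [show r ^ i * r * (r ^ i)⁻¹ = r by group, right_eq_mul] at hyr
      exact hz1 hyr
    have hP : ∀ ρ ∈ R, Commute ρ f → ρ ^ 2 ∈ Subgroup.zpowers z → Commute ρ y := by
      intro ρ hρ hρf hρ2
      by_cases hρC : ρ ∈ C
      · obtain ⟨i, rfl⟩ := key1 ρ hρ hρC hρ2
        exact (hyf.zpow_right i).symm
      · have hρr := hflip ρ hρ hρC hρf
        have hmem : ρ * y ∈ C := hker _ (R.mul_mem hρ hyR) (mul_inv_eq_iff_eq_mul.mp (by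
          rw [show ρ * y * r * (ρ * y)⁻¹ = ρ * (y * r * y⁻¹) * ρ⁻¹ by group, hyr,
            show ρ * (z * r) * ρ⁻¹ = (ρ * z * ρ⁻¹) * (ρ * r * ρ⁻¹) by group, hρr,
            Subgroup.mem_center_iff.mp hz ρ, mul_inv_cancel_right, ← mul_assoc, hzz, one_mul]))
        obtain ⟨a, ha⟩ := hgen _ (R.mul_mem hρ hyR) hmem
        have hρeq : ρ = r ^ a * y := by
          show ρ = (fun i => r ^ i) a * y
          rw [ha, mul_assoc, hy2, mul_one]
        have hra : r ^ a ∈ Subgroup.zpowers f := by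
          refine key1 _ (R.zpow_mem hrR a) (C.zpow_mem hrC a) ?_
          have h1 : ρ ^ 2 = r ^ a * (y * r ^ a * y⁻¹) * (y * y) := by rw [hρeq, sq]; group
          rw [hconjz y hyr, hy2, mul_one, ← mul_assoc, Subgroup.mem_center_iff.mp (zpow_mem hz a) (r ^ a),
            mul_assoc, ← sq] at h1
          rw [h1, Subgroup.mul_mem_cancel_left _ (zpow_mem (Subgroup.mem_zpowers z) a)] at hρ2
          exact hρ2
        obtain ⟨i, hi⟩ := hra
        rw [hρeq, ← hi]
        exact ((hyf.zpow_right i).symm).mul_left (Commute.refl y)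
    -- every element of `G` is `e ρ`
    have hdec : ∀ g : G, ∃ e ∈ E, ∃ ρ ∈ R, g = e * ρ := fun g => by
      have hg : g ∈ E ⊔ R := hsupTop ▸ Subgroup.mem_top g
      obtain ⟨e, he, ρ, hρ, h⟩ := Subgroup.mem_sup_of_normal_left.mp hg
      exact ⟨e, he, ρ, hρ, h.symm⟩
    have hER : ∀ e ∈ E, ∀ ρ ∈ R, Commute e ρ := fun e he ρ hρ => Subgroup.mem_centralizer_iff.mp hρ e he
    have hρdata : ∀ g : G, Commute g f → g ^ 2 ∈ Subgroup.zpowers z → ∃ e ∈ E, ∃ ρ ∈ R,
        g = e * ρ ∧ Commute ρ y ∧ ρ ^ 2 ∈ Subgroup.zpowers z := by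
      intro g hg hg2
      obtain ⟨e, he, ρ, hρ, rfl⟩ := hdec g
      have hef : Commute e f := (hCcomm e (hEle he).1 f hfΦ).symm
      have hρf : Commute ρ f := by
        have := hef.inv_left.mul_left hg
        rwa [inv_mul_cancel_left] at this
      rw [(hER e he ρ hρ).mul_pow, Subgroup.mul_mem_cancel_left _ (hEle he).2] at hg2
      exact ⟨e, he, ρ, hρ, rfl, hP ρ hρ hρf hg2, hg2⟩
    have hPcomm : ∀ ρ ∈ R, ∀ σ ∈ R, Commute ρ f → Commute σ f → ρ ^ 2 ∈ Subgroup.zpowers z →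
        σ ^ 2 ∈ Subgroup.zpowers z → Commute ρ σ := by
      intro ρ hρ σ hσ hρf hσf hρ2 hσ2
      have aux : ∀ τ ∈ R, Commute τ f → τ ^ 2 ∈ Subgroup.zpowers z →
          ∃ i : ℤ, τ = f ^ i ∨ τ = f ^ i * y := by
        intro τ hτ hτf hτ2
        by_cases hτC : τ ∈ C
        · obtain ⟨i, rfl⟩ := key1 τ hτ hτC hτ2
          exact ⟨i, Or.inl rfl⟩
        · have hτy : Commute τ y := hP τ hτ hτf hτ2
          have hmem : τ * y ∈ C := hker _ (R.mul_mem hτ hyR) (mul_inv_eq_iff_eq_mul.mp (by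
            rw [show τ * y * r * (τ * y)⁻¹ = τ * (y * r * y⁻¹) * τ⁻¹ by group, hyr,
              show τ * (z * r) * τ⁻¹ = (τ * z * τ⁻¹) * (τ * r * τ⁻¹) by group, hflip τ hτ hτC hτf,
              Subgroup.mem_center_iff.mp hz τ, mul_inv_cancel_right, ← mul_assoc, hzz, one_mul]))
          obtain ⟨i, hi⟩ := key1 _ (R.mul_mem hτ hyR) hmem (by rw [hτy.mul_pow, sq y, hy2, mul_one]; exact hτ2)
          refine ⟨i, Or.inr ?_⟩
          show τ = (fun k => f ^ k) i * y
          rw [hi, mul_assoc, hy2, mul_one]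
      obtain ⟨i, hi⟩ := aux ρ hρ hρf hρ2
      obtain ⟨j, hj⟩ := aux σ hσ hσf hσ2
      have hfi : ∀ a b : ℤ, Commute (f ^ a) (f ^ b) := fun a b => (Commute.refl f).zpow_zpow a b
      have hfy : ∀ a : ℤ, Commute (f ^ a) y := fun a => (hyf.zpow_right a).symm
      rcases hi with rfl | rfl <;> rcases hj with rfl | rfl
      · exact hfi i j
      · exact (hfi i j).mul_right (hfy i)
      · exact ((hfi i j).mul_left (hfy j).symm)
      · exact ((hfi i j).mul_right (hfy i)).mul_left ((hfy j).symm.mul_right (Commute.refl y))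
    let W : Subgroup G :=
      { carrier := {x | Commute x f ∧ x ^ 2 ∈ Subgroup.zpowers z}
        one_mem' := ⟨Commute.one_left f, by rw [one_pow]; exact one_mem _⟩
        mul_mem' := fun {a b} ha hb => by
          refine ⟨ha.1.mul_left hb.1, ?_⟩
          obtain ⟨e, he, ρ, hρ, rfl, -, hρ2⟩ := hρdata a ha.1 ha.2
          obtain ⟨e', he', σ, hσ, rfl, -, hσ2⟩ := hρdata b hb.1 hb.2
          have hf' : ∀ ε ∈ E, ∀ τ : G, Commute (ε * τ) f → Commute τ f := fun ε hε τ h => by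
            have := ((hCcomm ε (hEle hε).1 f hfΦ).symm).inv_left.mul_left h
            rwa [inv_mul_cancel_left] at this
          rw [show e * ρ * (e' * σ) = e * (ρ * e') * σ by group, (hER e' he' ρ hρ).symm.eq,
            show e * (e' * ρ) * σ = (e * e') * (ρ * σ) by group, (hER _ (E.mul_mem he he') _ (R.mul_mem hρ hσ)).mul_pow,
            (hPcomm ρ hρ σ hσ (hf' e he ρ ha.1) (hf' e' he' σ hb.1) hρ2 hσ2).mul_pow]
          exact mul_mem (hEle (E.mul_mem he he')).2 (mul_mem hρ2 hσ2)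
        inv_mem' := fun {a} ha => ⟨ha.1.inv_left, by rw [inv_pow]; exact inv_mem ha.2⟩ }
    have hyW : y ∈ W := ⟨hyf, by rw [sq, hy2]; exact one_mem _⟩
    have hzW : z ∈ W := ⟨(Subgroup.mem_center_iff.mp hz f).symm, by rw [hzp]; exact one_mem _⟩
    haveI : W.Characteristic := Subgroup.characteristic_iff_map_le.mpr fun φ => by
      rintro _ ⟨x, hx, rfl⟩
      refine ⟨?_, by show φ x ^ 2 ∈ _; rw [← map_pow]; exact hφzp φ _ hx.2⟩
      have h1 : φ.symm f ∈ Subgroup.zpowers f := mem_zpowers_of_isCyclic hΦ hfΦ (hφΦ φ.symm f hfΦ)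
        (by rw [hf, ← map_pow, hf4, map_one])
      obtain ⟨i, hi⟩ := h1
      have h2 : Commute x (φ.symm f) := hi ▸ hx.1.zpow_right i
      have h3 := h2.map φ
      rwa [φ.apply_symm_apply] at h3
    have hyZ : y ∈ Subgroup.centralizer (W : Set G) := Subgroup.mem_centralizer_iff.mpr fun g hg => by
      obtain ⟨e, he, ρ, hρ, rfl, hρy, -⟩ := hρdata g hg.1 hg.2
      exact ((hER e he y hyR).mul_left hρy).eq
    have hyz : y ∈ Subgroup.zpowers z := mem_zpowers_of_isCyclic (isCyclic_inf_centralizer hsymp W)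
      (Subgroup.mem_inf.mpr ⟨hzW, Subgroup.center_le_centralizer _ hz⟩) (Subgroup.mem_inf.mpr ⟨hyW, hyZ⟩)
      (by rw [orderOf_eq_prime hzp hz1, sq, hy2])
    exact hyC (Subgroup.center_le_centralizer _ (hzc hyz))
  -- the structure of `R`
  by_cases hRC : ∀ x ∈ R, x ∈ C
  · left
    rw [show R = Subgroup.zpowers r from le_antisymm (fun x hx => hgen x hx (hRC x hx)) (Subgroup.zpowers_le.mpr hrR)]
    infer_instance
  push Not at hRC
  obtain ⟨g, hgR, hgC⟩ := hRC
  have hfinv : ∀ x ∈ R, x ∉ C → x * f * x⁻¹ = f⁻¹ := by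
    intro x hx hxC
    obtain ⟨i, hi⟩ := mem_zpowers_of_isCyclic hΦ hfΦ ((inferInstance : (frattini G).Normal).conj_mem f hfΦ x)
      (by rw [hf, conj_pow, hf4]; group)
    have hi : f ^ i = x * f * x⁻¹ := hi
    rw [← zpow_mod_orderOf, hf] at hi
    have h0 := Int.emod_nonneg i (show ((4 : ℕ) : ℤ) ≠ 0 by norm_num)
    have h4 := Int.emod_lt_of_pos i (show (0 : ℤ) < ((4 : ℕ) : ℤ) by norm_num)
    generalize i % ((4 : ℕ) : ℤ) = a at hi h0 h4
    have hne : a ≠ 1 := fun ha => hxC (key2 x hx (by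
      rw [ha, zpow_one] at hi
      exact mul_inv_eq_iff_eq_mul.mp hi.symm))
    have ho : orderOf (x * f * x⁻¹) = 4 := by
      rw [show x * f * x⁻¹ = MulAut.conj x f from rfl, MulEquiv.orderOf_eq, hf]
    rcases (show a = 0 ∨ a = 2 ∨ a = 3 by omega) with rfl | rfl | rfl
    · rw [zpow_zero] at hi
      rw [← hi, orderOf_one] at ho
      omega
    · rw [show (2 : ℤ) = ((2 : ℕ) : ℤ) from rfl, zpow_natCast, hf2] at hi
      rw [← hi, orderOf_eq_prime hzp hz1] at ho
      omega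
    · rw [← hi, eq_inv_iff_mul_eq_one, ← zpow_add_one]
      norm_num
      exact_mod_cast hf4
  have hidx : ((R ⊓ C).subgroupOf R).index = 2 := by
    rw [Subgroup.index_eq_two_iff']
    refine ⟨⟨g, hgR⟩, fun b => ?_⟩
    simp only [Subgroup.mem_subgroupOf, Subgroup.coe_mul, Subgroup.mem_inf, SetLike.coe_mem, true_and,
      R.mul_mem hgR b.2, R.mul_mem b.2 hgR]
    by_cases hb : (b : G) ∈ C
    · simp [hb, C.mul_mem_cancel_right hb, C.mul_mem_cancel_left hb, hgC]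
    · have h : g * (b : G) ∈ C := by
        refine key2 _ (R.mul_mem hgR b.2) (mul_inv_eq_iff_eq_mul.mp ?_)
        rw [show g * (b : G) * f * (g * (b : G))⁻¹ = g * ((b : G) * f * (b : G)⁻¹) * g⁻¹ by group, hfinv b b.2 hb,
          show g * f⁻¹ * g⁻¹ = (g * f * g⁻¹)⁻¹ by group, hfinv g hgR hgC, inv_inv]
      simp [hb, h]
  have hcardR : Nat.card ↥R = 2 ^ (m + 1) := by
    rw [← ((R ⊓ C).subgroupOf R).card_mul_index, hidx,
      Nat.card_congr (Subgroup.subgroupOfEquivOfLe inf_le_left).toEquiv, hR0eq, Nat.card_zpowers, hm, pow_succ]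
  have hm3 : 3 ≤ m := by
    by_contra hlt
    have hrf : r ∈ Subgroup.zpowers f := mem_zpowers_of_isCyclic (N := Subgroup.zpowers r) inferInstance
      (hΦr f hfΦ) (Subgroup.mem_zpowers r) (orderOf_dvd_iff_pow_eq_one.mp (by
        rw [hf, hm]; exact (pow_dvd_pow 2 (show m ≤ 2 by omega)).trans (by norm_num)))
    have hsq : ∀ x : G, x ^ 2 ∈ Subgroup.zpowers z := by
      intro x
      have hxER : x ∈ E ⊔ R := hsupTop ▸ Subgroup.mem_top x
      obtain ⟨e, he, ρ, hρ, rfl⟩ := Subgroup.mem_sup_of_normal_left.mp hxER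
      rw [(show Commute e ρ from Subgroup.mem_centralizer_iff.mp hρ e he).mul_pow]
      refine mul_mem (hEle he).2 ?_
      obtain ⟨i, hi⟩ := Subgroup.zpowers_le.mpr hrf (hΦr _ (CfsgLib.PGroup.pow_prime_mem_frattini hG ρ))
      have hi : f ^ i = ρ ^ 2 := hi
      by_cases hρC : ρ ∈ C
      · obtain ⟨j, hj⟩ := Subgroup.zpowers_le.mpr hrf (hgen ρ hρ hρC)
        rw [← hj, ← zpow_natCast, ← zpow_mul, mul_comm, zpow_mul, zpow_natCast, hf2]
        exact zpow_mem (Subgroup.mem_zpowers z) j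
      · refine hΩ _ (CfsgLib.PGroup.pow_prime_mem_frattini hG ρ) ?_
        have h1 : ρ * f ^ i * ρ⁻¹ = (f ^ i)⁻¹ := by rw [← conj_zpow, hfinv ρ hρ hρC, inv_zpow]
        rw [hi, sq ρ, show ρ * (ρ * ρ) * ρ⁻¹ = ρ * ρ by group, eq_inv_iff_mul_eq_one] at h1
        rw [sq (ρ ^ 2), sq ρ]
        exact h1
    haveI : (Subgroup.zpowers z).Normal := ⟨fun w hw k => by
      rw [Subgroup.mem_center_iff.mp (hzc hw) k, mul_inv_cancel_right]; exact hw⟩
    refine hfz (CfsgLib.PGroup.frattini_le_of_elementary (P := G) (p := 2) (N := Subgroup.zpowers z) (fun a b => ?_) hsq hfΦ)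
    rw [show ⁅a, b⁆ = (a * b) ^ 2 * (b⁻¹ * a⁻¹ * b) ^ 2 * (b⁻¹) ^ 2 by
      simp only [commutatorElement_def, sq]; group]
    exact mul_mem (mul_mem (hsq _) (hsq _)) (hsq _)
  refine Or.inr ⟨rfl, by
    rw [hcardR]
    calc 16 = 2 ^ 4 := by norm_num
      _ ≤ 2 ^ (m + 1) := Nat.pow_le_pow_right two_pos (by omega), ?_⟩
  have hnc : ¬ IsMulCommutative ↥R := fun h => hgC (hker g hgR
    (congrArg Subtype.val (h.is_comm.comm ⟨g, hgR⟩ ⟨r, hrR⟩)))
  obtain ⟨-, u, s, F, hrot, hcases⟩ := CfsgLib.TwoGroup.classify_cyclic_index_two (G := ↥R) ⟨r, hrR⟩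
    (by rw [Subgroup.orderOf_mk, hm]) hcardR hnc
  rcases hcases with ⟨rfl, rfl⟩ | ⟨rfl, rfl⟩ | ⟨hm', rfl, rfl⟩ | ⟨-, rfl, rfl⟩
  · exact Or.inl ⟨_, F.nonempty_mulEquiv_dihedral⟩
  · exact Or.inr (Or.inl ⟨_, F.nonempty_mulEquiv_quaternion_two_pow (by omega)⟩)
  · exact Or.inr (Or.inr (F.isQuasiDihedral hm'))
  · exfalso
    refine F.y_notMem_rot ?_
    obtain ⟨i, hi⟩ := hΦr f hfΦ
    obtain ⟨j, hj⟩ := F.mem_rot.mp (hrot ▸ zpow_mem (Subgroup.mem_zpowers (⟨r, hrR⟩ : ↥R)) i)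
    have hfj : ((F.e j : ↥R) : G) = f := by rw [← hj]; exact hi
    have h4 : (F.e j) ^ 4 = 1 := Subtype.ext (by rw [Subgroup.coe_pow, hfj, hf4]; rfl)
    rw [← F.map_nsmul, F.e_eq_one] at h4
    have hh : CfsgLib.TwoGroup.half m * j = 0 := by
      have h5 : CfsgLib.TwoGroup.half m = (2 : ZMod (2 ^ m)) ^ (m - 3) * ((4 : ℕ) : ZMod (2 ^ m)) := by
        rw [CfsgLib.TwoGroup.half, show m - 1 = m - 3 + 2 by omega, pow_add]
        norm_num
      rw [h5, mul_assoc, h4, mul_zero]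
    have hc : F.y * F.e j = F.e j * F.y := by rw [F.conj_y, add_mul, one_mul, hh, add_zero]
    have hcG : Commute ((F.y : ↥R) : G) f := by
      rw [← hfj]
      exact congrArg Subtype.val hc
    obtain ⟨k, hk⟩ := hgen _ F.y.2 (key2 _ F.y.2 hcG)
    rw [hrot]
    exact ⟨k, Subtype.ext (by simpa using hk)⟩

end Two

/-- Philip Hall's theorem. -/
theorem hall_decomposition (hG : IsPGroup p G)
    (hsymp : ∀ A : Subgroup G, A.Characteristic → IsMulCommutative A → IsCyclic A) :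
    ∃ E R : Subgroup G, (∀ e ∈ E, ∀ r ∈ R, e * r = r * e) ∧ E ⊔ R = ⊤ ∧
      (E = ⊥ ∨ Cfsg.IsExtraspecial p ↥E) ∧ IsHallFactor p R := by
  by_cases hab : ∀ a b : G, a * b = b * a
  · exact ⟨⊥, ⊤, fun e he r _ => by simp [Subgroup.mem_bot.mp he], bot_sup_eq _, Or.inl rfl,
      Or.inl (hsymp ⊤ inferInstance ⟨⟨fun a b => Subtype.ext (hab a b)⟩⟩)⟩
  have hne : frattini G ≠ ⊥ := fun h => hab ((CfsgLib.PGroup.frattini_eq_bot_iff hG).mp h).1
  have hΦ : IsCyclic ↥(frattini G) := isCyclic_of_le_frattini hG le_rfl (isCyclic_inf_centralizer hsymp _)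
  haveI : Nontrivial ↥(frattini G) := (frattini G).nontrivial_iff_ne_bot.mpr hne
  obtain ⟨n, hn, hcard⟩ := (hG.to_subgroup (frattini G)).nontrivial_iff_card.mp inferInstance
  obtain ⟨⟨z, hzΦ⟩, hzo⟩ := exists_prime_orderOf_dvd_card' (G := ↥(frattini G)) p (hcard ▸ dvd_pow_self p hn.ne')
  rw [Subgroup.orderOf_mk] at hzo
  have hzp : z ^ p = 1 := hzo ▸ pow_orderOf_eq_one z
  have hz1 : z ≠ 1 := fun h => hp.out.ne_one (by rw [← hzo, h, orderOf_one])
  have hz : z ∈ Subgroup.center G := central_of_mem_cyclic_normal hG hΦ hzΦ hzp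
  rcases eq_or_ne p 2 with rfl | hp2
  swap
  · exact hall_decomposition_odd hp2 hG hsymp hΦ hzΦ hz hz1 hzp
  by_cases hbig : ∃ f ∈ frattini G, orderOf f = 4
  · obtain ⟨f, hfΦ, hf⟩ := hbig
    exact hall_decomposition_two_big hG hsymp hΦ hz hz1 hzp hzΦ hfΦ hf
  refine hall_decomposition_two_small hG hsymp hz hz1 hzp hzΦ fun e he => ?_
  refine mem_zpowers_of_isCyclic hΦ hzΦ he ?_
  rw [orderOf_eq_prime hzp hz1]
  obtain ⟨k, hk⟩ := IsPGroup.iff_orderOf.mp hG e
  rcases Nat.lt_or_ge k 2 with hlt | hge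
  · exact orderOf_dvd_iff_pow_eq_one.mp (by rw [hk]; exact (pow_dvd_pow 2 (show k ≤ 1 by omega)).trans (by norm_num))
  · refine absurd ⟨e ^ 2 ^ (k - 2), (frattini G).pow_mem he _, ?_⟩ hbig
    rw [orderOf_pow' e (pow_ne_zero _ two_ne_zero), hk, Nat.gcd_eq_right (pow_dvd_pow 2 (show k - 2 ≤ k by omega)),
      Nat.pow_div (by omega) two_pos, show k - (k - 2) = 2 by omega]
    rfl

end CfsgLib.SymplecticType
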